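/-
helper61 (project REEW2): the normaliser of the split torus `H¹` of `²G₂(q)` is `N¹`, of order `2(q - 1)`, and the
elements of order `> 2` dividing `q - 1` are counted through the conjugates of `H¹`.
-/
import Cfsg.Agent.Lib.Helper61.ReeW.Torus
import Cfsg.Agent.Lib.Helper61.ReeW.Seven
import Cfsg.Agent.Lib.Helper61.Ree.TwBN
import Cfsg.Agent.Lib.Helper37.ReeW2Count

set_option autoImplicit false
set_option linter.unusedSectionVars false

namespace Cfsg.Agent.Lib.Helper61.ReeW2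

open Cfsg.Lie Cfsg.Agent.Lib.Helper19.ReeAbs Cfsg.Agent.Lib.Helper61.ReeInv Cfsg.Agent.Lib.Helper61.ReeW
open Cfsg.Agent.Lib.Helper36.ReeW Cfsg.Agent.Lib.Helper37.ReeW2

universe u

variable {K : Type u} [Field K] [Fintype K] [CharP K 3] {m : ℕ}

/-- `N¹` as a subgroup of `²G₂(q)`. -/
noncomputable def Ns (K : Type u) [Field K] [Fintype K] (m : ℕ) : Subgroup ↥(twistedG2 K (3 ^ m)) :=
  (chevG2.monomialSubgroup K).subgroupOf (twistedG2 K (3 ^ m))

theorem q_mod_eight (m : ℕ) : 3 ^ (2 * m + 1) % 8 = 3 := by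
  rw [pow_succ, pow_mul, Nat.mul_mod, Nat.pow_mod]
  norm_num

theorem card_subgroupOf_eq_card_inf' {G : Type*} [Group G] (A M : Subgroup G) :
    Nat.card ↥(A.subgroupOf M) = Nat.card ↥(A ⊓ M) := by
  rw [← Subgroup.inf_subgroupOf_right A M]
  exact Nat.card_congr (Subgroup.subgroupOfEquivOfLe (inf_le_right : A ⊓ M ≤ M)).toEquiv

theorem card_Ns (hK : Fintype.card K = 3 ^ (2 * m + 1)) :
    Nat.card ↥(Ns K m) = 2 * (3 ^ (2 * m + 1) - 1) := by
  obtain ⟨φ, hφ, hker⟩ := ree_weyl_hom (K := K) (m := m) hK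
  unfold Ns
  rw [card_subgroupOf_eq_card_inf']
  have h1 : Nat.card ↥(chevG2.monomialSubgroup K ⊓ twistedG2 K (3 ^ m))
      = Nat.card ↥φ.ker * φ.ker.index := (Subgroup.card_mul_index φ.ker).symm
  have h2 : φ.ker.index = 2 := by
    rw [Subgroup.index_ker, MonoidHom.range_eq_top.mpr hφ, Subgroup.card_top]
    simp [Nat.card_eq_fintype_card]
  have hle : chevG2.diagonalSubgroup K ⊓ twistedG2 K (3 ^ m)
      ≤ chevG2.monomialSubgroup K ⊓ twistedG2 K (3 ^ m) := by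
    intro x hx
    exact ⟨(reeTw K m (hq_of_card' hK)).H_le_N hx.1, hx.2⟩
  have h3 : Nat.card ↥φ.ker = 3 ^ (2 * m + 1) - 1 := by
    rw [hker, Nat.card_congr (Subgroup.subgroupOfEquivOfLe hle).toEquiv, card_H1 hK]
  rw [h1, h2, h3, mul_comm]

/-- An element of `H¹` of order `> 2` conjugated into `H` by `g`: then `g ∈ N`. -/
theorem mem_Ns_of_conj (hK : Fintype.card K = 3 ^ (2 * m + 1)) (x : ↥(twistedG2 K (3 ^ m))) (hx : x ∈ Hs K m)
    (hx2 : x * x ≠ 1) (g : ↥(twistedG2 K (3 ^ m))) (hg : g * x * g⁻¹ ∈ Hs K m) : g ∈ Ns K m := by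
  have hq := hq_of_card' hK
  -- `z = x²` has odd order
  set z : ↥(twistedG2 K (3 ^ m)) := x * x with hz
  have hzH : z ∈ Hs K m := mul_mem hx hx
  have hxq : x ^ (3 ^ (2 * m + 1) - 1) = 1 := by
    have := pow_card_eq_one' (G := ↥(Hs K m)) (x := ⟨x, hx⟩)
    rw [card_Hs hK] at this
    exact congrArg Subtype.val this
  have h8 := q_mod_eight m
  have hzk : z ^ ((3 ^ (2 * m + 1) - 1) / 2) = 1 := by
    rw [hz, ← pow_two, ← pow_mul, Nat.mul_div_cancel' (by omega)]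
    exact hxq
  have hzodd : Odd (orderOf z) := by
    have hd : orderOf z ∣ (3 ^ (2 * m + 1) - 1) / 2 := orderOf_dvd_of_pow_eq_one hzk
    have hodd : Odd ((3 ^ (2 * m + 1) - 1) / 2) := by
      rw [Nat.odd_iff]; omega
    exact Odd.of_dvd_nat hodd hd
  have hz1 : (z : GL chevG2.Idx K) ≠ 1 := fun h => hx2 (Subtype.ext h)
  have hzmem : (z : GL chevG2.Idx K) ∈ chevG2.diagonalSubgroup K ⊓ twistedG2 K (3 ^ m) :=
    ⟨(mem_Hs z).mp hzH, z.2⟩
  have hzord : Odd (orderOf (z : GL chevG2.Idx K)) := by rw [Subgroup.orderOf_coe]; exact hzodd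
  have hfpf : ∀ u ∈ (reeTw K m hq).U, u ∈ (reeTw K m hq).G1 → (z : GL chevG2.Idx K) * u = u * z → u = 1 := by
    intro u hu hu1 hux
    have hbot := odd_fpf hK (z : GL chevG2.Idx K) hzmem hz1 hzord
    have hmem : u ∈ (chevG2.posUnipotent K ⊓ twistedG2 K (3 ^ m)) ⊓ Subgroup.centralizer {(z : GL chevG2.Idx K)} := by
      refine Subgroup.mem_inf.mpr ⟨Subgroup.mem_inf.mpr ⟨hu, hu1⟩, ?_⟩
      rw [Subgroup.mem_centralizer_singleton_iff]
      exact hux.symm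
    rw [hbot, Subgroup.mem_bot] at hmem
    exact hmem
  have hgz : (g : GL chevG2.Idx K) * z * (g : GL chevG2.Idx K)⁻¹ ∈ (reeTw K m hq).H := by
    have h1 : g * z * g⁻¹ ∈ Hs K m := by
      have : g * z * g⁻¹ = (g * x * g⁻¹) * (g * x * g⁻¹) := by rw [hz]; group
      rw [this]
      exact mul_mem hg hg
    exact (mem_Hs _).mp h1
  exact Subgroup.mem_subgroupOf.mpr
    (mem_N_of_conj_mem_H (reeTw K m hq) (z : GL chevG2.Idx K) hzmem.1 hzmem.2 hfpf g g.2 hgz)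

theorem Ns_le_normalizer (hK : Fintype.card K = 3 ^ (2 * m + 1)) :
    Ns K m ≤ Subgroup.normalizer ((Hs K m : Subgroup ↥(twistedG2 K (3 ^ m))) : Set ↥(twistedG2 K (3 ^ m))) := by
  have hq := hq_of_card' hK
  have key : ∀ g ∈ Ns K m, ∀ h ∈ Hs K m, g * h * g⁻¹ ∈ Hs K m := by
    intro g hg h hh
    rw [mem_Hs]
    exact (reeTw K m hq).N_norm_H _ (Subgroup.mem_subgroupOf.mp hg) _ ((mem_Hs h).mp hh)
  intro g hg
  rw [Subgroup.mem_normalizer_iff]
  intro h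
  constructor
  · exact key g hg h
  · intro hh
    have := key g⁻¹ (inv_mem hg) _ hh
    have e : g⁻¹ * (g * h * g⁻¹) * g⁻¹⁻¹ = h := by group
    rwa [e] at this

/-- An element of order `> 2` of `H¹` exists (`q ≥ 27`). -/
theorem exists_mem_Hs_sq_ne_one (hm : 1 ≤ m) (hK : Fintype.card K = 3 ^ (2 * m + 1)) :
    ∃ x ∈ Hs K m, x * x ≠ 1 := by
  haveI := isCyclic_Hs (K := K) (m := m) hK
  obtain ⟨g, hg⟩ := IsCyclic.exists_generator (α := ↥(Hs K m))
  refine ⟨g, g.2, ?_⟩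
  intro h
  have h2 : g ^ 2 = 1 := by
    apply Subtype.ext
    rw [pow_two]
    exact h
  have hord : orderOf g = Nat.card ↥(Hs K m) := orderOf_eq_card_of_forall_mem_zpowers hg
  rw [card_Hs hK] at hord
  have hd : orderOf g ∣ 2 := orderOf_dvd_of_pow_eq_one h2
  have hle := Nat.le_of_dvd (by norm_num) hd
  have hq27 : 27 ≤ 3 ^ (2 * m + 1) := by
    calc 27 = 3 ^ 3 := by norm_num
      _ ≤ 3 ^ (2 * m + 1) := Nat.pow_le_pow_right (by norm_num) (by omega)
  omega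

theorem normalizer_Hs (hm : 1 ≤ m) (hK : Fintype.card K = 3 ^ (2 * m + 1)) :
    Subgroup.normalizer ((Hs K m : Subgroup ↥(twistedG2 K (3 ^ m))) : Set ↥(twistedG2 K (3 ^ m))) = Ns K m := by
  apply le_antisymm _ (Ns_le_normalizer hK)
  intro g hg
  obtain ⟨x, hx, hx2⟩ := exists_mem_Hs_sq_ne_one hm hK
  exact mem_Ns_of_conj hK x hx hx2 g ((Subgroup.mem_normalizer_iff.mp hg x).mp hx)

theorem card_normalizer_Hs (hm : 1 ≤ m) (hK : Fintype.card K = 3 ^ (2 * m + 1)) :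
    Nat.card ↥(Subgroup.normalizer ((Hs K m : Subgroup ↥(twistedG2 K (3 ^ m))) : Set ↥(twistedG2 K (3 ^ m))))
      = 2 * (3 ^ (2 * m + 1) - 1) := by
  rw [normalizer_Hs hm hK, card_Ns hK]

/-- A general fact: an element of prime order among the powers of `z ≠ 1`. -/
theorem exists_prime_order_pow {G : Type*} [Group G] [Finite G] (z : G) (hz : z ≠ 1) :
    ∃ k : ℕ, (orderOf (z ^ k)).Prime ∧ orderOf (z ^ k) ∣ orderOf z := by
  have h1 : orderOf z ≠ 1 := fun h => hz (orderOf_eq_one_iff.mp h)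
  obtain ⟨p, hp, hpd⟩ := Nat.exists_prime_and_dvd h1
  have h0 : orderOf z ≠ 0 := (orderOf_pos z).ne'
  refine ⟨orderOf z / p, ?_, ?_⟩
  · rw [orderOf_pow_orderOf_div h0 hpd]; exact hp
  · rw [orderOf_pow_orderOf_div h0 hpd]; exact hpd

/-- Every element with `x² ≠ 1`, `x^(q-1) = 1` is conjugate into `H¹`. -/
theorem exists_conj_mem_Hs_of_pow (hK : Fintype.card K = 3 ^ (2 * m + 1)) (x : ↥(twistedG2 K (3 ^ m)))
    (hx2 : x * x ≠ 1) (hxq : x ^ (3 ^ (2 * m + 1) - 1) = 1) : ∃ g : ↥(twistedG2 K (3 ^ m)), g * x * g⁻¹ ∈ Hs K m := by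
  have h8 := q_mod_eight m
  set z : ↥(twistedG2 K (3 ^ m)) := x * x with hz
  have hzk : z ^ ((3 ^ (2 * m + 1) - 1) / 2) = 1 := by
    rw [hz, ← pow_two, ← pow_mul, Nat.mul_div_cancel' (by omega)]
    exact hxq
  obtain ⟨k, hkp, hkd⟩ := exists_prime_order_pow z hx2
  set w : ↥(twistedG2 K (3 ^ m)) := z ^ k with hw
  have hd : orderOf w ∣ (3 ^ (2 * m + 1) - 1) / 2 := hkd.trans (orderOf_dvd_of_pow_eq_one hzk)
  obtain ⟨hp2, -, hpq⟩ := prime_half_facts m _ hkp hd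
  obtain ⟨g, hg⟩ := exists_conj_mem_Hs hK w _ hkp hp2 hpq rfl
  have hw1 : w ≠ 1 := by
    intro h
    rw [h, orderOf_one] at hkp
    exact Nat.not_prime_one hkp
  have hodd : Odd (orderOf w) := hkp.odd_of_ne_two hp2
  have hC := centralizer_eq_conj_Hs hK w g hw1 hodd hg
  have hxw : x ∈ Subgroup.centralizer {w} := by
    rw [Subgroup.mem_centralizer_singleton_iff, hw, hz, ← pow_two, ← pow_mul, ← pow_succ, ← pow_succ']
  rw [hC, Subgroup.mem_map] at hxw
  obtain ⟨h, hh, e⟩ := hxw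
  refine ⟨g, ?_⟩
  rw [← e]
  show g * (g⁻¹ * h * g⁻¹⁻¹) * g⁻¹ ∈ Hs K m
  have e2 : g * (g⁻¹ * h * g⁻¹⁻¹) * g⁻¹ = h := by group
  rw [e2]
  exact hh

/-- The counting formula for a conjugation-invariant class of elements of order `> 2` dividing `q - 1`. -/
theorem card_class_sub_one (hm : 1 ≤ m) (hK : Fintype.card K = 3 ^ (2 * m + 1))
    (P : ↥(twistedG2 K (3 ^ m)) → Prop) (hP : ∀ g x : ↥(twistedG2 K (3 ^ m)), P x → P (g * x * g⁻¹))
    (hP2 : ∀ x : ↥(twistedG2 K (3 ^ m)), P x → x * x ≠ 1 ∧ x ^ (3 ^ (2 * m + 1) - 1) = 1) :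
    Nat.card {x : ↥(twistedG2 K (3 ^ m)) // P x} * (2 * (3 ^ (2 * m + 1) - 1))
      = Nat.card {x : ↥(twistedG2 K (3 ^ m)) // P x ∧ x ∈ Hs K m} * Nat.card ↥(twistedG2 K (3 ^ m)) := by
  rw [← card_normalizer_Hs hm hK]
  apply card_mul_card_normalizer_eq (Hs K m) P hP
  · intro x hx
    exact exists_conj_mem_Hs_of_pow hK x (hP2 x hx).1 (hP2 x hx).2
  · intro x hxH hx g hg
    exact Ns_le_normalizer hK (mem_Ns_of_conj hK x hxH (hP2 x hx).1 g hg)

/-- `H¹` has `φ(i)` elements of order `i` for `i ∣ q - 1`. -/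
theorem card_Hs_orderOf (hK : Fintype.card K = 3 ^ (2 * m + 1)) (i : ℕ) (hi : i ∣ 3 ^ (2 * m + 1) - 1) :
    Nat.card {x : ↥(twistedG2 K (3 ^ m)) // orderOf x = i ∧ x ∈ Hs K m} = Nat.totient i := by
  classical
  haveI := isCyclic_Hs (K := K) (m := m) hK
  haveI : Fintype ↥(Hs K m) := Fintype.ofFinite _
  have h1 := IsCyclic.card_orderOf_eq_totient (α := ↥(Hs K m)) (d := i)
    (by rw [← Nat.card_eq_fintype_card, card_Hs hK]; exact hi)
  rw [← h1, ← Fintype.card_subtype, ← Nat.card_eq_fintype_card]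
  apply Nat.card_congr
  exact {
    toFun := fun x => ⟨⟨x.1, x.2.2⟩, by rw [← Subgroup.orderOf_coe]; exact x.2.1⟩
    invFun := fun y => ⟨y.1.1, by rw [Subgroup.orderOf_coe]; exact y.2, y.1.2⟩
    left_inv := fun x => rfl
    right_inv := fun y => rfl }

/-- Number of elements of order `i`, `2 < i ∣ q - 1`. -/
theorem card_orderOf_sub_one (hm : 1 ≤ m) (hK : Fintype.card K = 3 ^ (2 * m + 1)) (i : ℕ) (hi2 : 2 < i)
    (hi : i ∣ 3 ^ (2 * m + 1) - 1) :
    Nat.card {x : ↥(twistedG2 K (3 ^ m)) // orderOf x = i} * (2 * (3 ^ (2 * m + 1) - 1))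
      = Nat.totient i * Nat.card ↥(twistedG2 K (3 ^ m)) := by
  rw [← card_Hs_orderOf hK i hi]
  apply card_class_sub_one hm hK (fun x => orderOf x = i)
  · intro g x hx
    show orderOf (g * x * g⁻¹) = i
    have : g * x * g⁻¹ = (MulAut.conj g) x := by simp [MulAut.conj_apply]
    rw [this, MulEquiv.orderOf_eq]
    exact hx
  · intro x hx
    have hx' : orderOf x = i := hx
    constructor
    · intro h
      have hd : orderOf x ∣ 2 := orderOf_dvd_of_pow_eq_one (by rw [pow_two]; exact h)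
      have := Nat.le_of_dvd (by norm_num) hd
      omega
    · apply orderOf_dvd_iff_pow_eq_one.mp
      rw [hx']
      exact hi

end Cfsg.Agent.Lib.Helper61.ReeW2
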