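/-
helper61 (project REEW2): the normaliser of `U¹` in `²G₂(q)` is `U¹H¹` of order `q³(q - 1)`; the number of elements of
order `3` and `9` of `²G₂(q)`.
-/
import Cfsg.Agent.Lib.Helper61.ReeW.Three
import Cfsg.Agent.Lib.Helper61.ReeW2.NormH
import Cfsg.Agent.Lib.Helper20.ReeCube
import Cfsg.Agent.S1154

set_option autoImplicit false
set_option linter.unusedSectionVars false

namespace Cfsg.Agent.Lib.Helper61.ReeW2

open Cfsg.Lie Cfsg.Agent.Lib.Helper18 Cfsg.Agent.Lib.Helper19.ReeAbs Cfsg.Agent.Lib.Helper61.ReeInv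
open Cfsg.Agent.Lib.Helper61.ReeW Cfsg.Agent.Lib.Helper90.ReeW Cfsg.Agent.Lib.Helper37.ReeW2

universe u

variable {K : Type u} [Field K] [Fintype K] [CharP K 3] {m : ℕ}

/-- If `g` conjugates a non-trivial element of `U¹` into `U¹` then `g ∈ U¹H¹`. -/
theorem mem_UH_of_conj (hK : Fintype.card K = 3 ^ (2 * m + 1)) (x g : ↥(twistedG2 K (3 ^ m)))
    (hx : x ∈ Us K m) (hx1 : x ≠ 1) (hg : g * x * g⁻¹ ∈ Us K m) :
    ∃ u ∈ Us K m, ∃ h ∈ Hs K m, g = u * h := by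
  have hq := hq_of_card' hK
  obtain ⟨n₀, hn₀, hn₀1, hl₀⟩ := (reeTw K m hq).exists_long
  have D := Cfsg.Agent.Lib.Helper20.ReeStab.dataTI (reeTw K m hq) n₀ hn₀ hn₀1 hl₀
  have hxU : x ∈ Cfsg.Agent.Lib.Helper20.ReeStab.U1 (reeTw K m hq) := hx
  have hgU : g * x * g⁻¹ ∈ Cfsg.Agent.Lib.Helper20.ReeStab.U1 (reeTw K m hq) := hg
  obtain ⟨u, hu, h, hh, e⟩ := Cfsg.Agent.Lib.Helper20.RankOneTI.mem_borel_of_conj D hxU hx1 hgU
  exact ⟨u, hu, h, (mem_Hs h).mpr (Subgroup.mem_subgroupOf.mp hh), e⟩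

theorem Hs_norm_Us (hK : Fintype.card K = 3 ^ (2 * m + 1)) (h : ↥(twistedG2 K (3 ^ m))) (hh : h ∈ Hs K m)
    (u : ↥(twistedG2 K (3 ^ m))) (hu : u ∈ Us K m) : h * u * h⁻¹ ∈ Us K m :=
  Subgroup.mem_subgroupOf.mpr
    ((reeTw K m (hq_of_card' hK)).H_norm_U _ ((mem_Hs h).mp hh) _ (Subgroup.mem_subgroupOf.mp hu))

theorem Us_inf_Hs (hK : Fintype.card K = 3 ^ (2 * m + 1)) (x : ↥(twistedG2 K (3 ^ m))) (hxU : x ∈ Us K m)
    (hxH : x ∈ Hs K m) : x = 1 := by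
  apply Subtype.ext
  exact (reeTw K m (hq_of_card' hK)).U_inf_H _ (Subgroup.mem_subgroupOf.mp hxU) ((mem_Hs x).mp hxH)

theorem UH_conj_mem (hK : Fintype.card K = 3 ^ (2 * m + 1)) (u h y : ↥(twistedG2 K (3 ^ m)))
    (hu : u ∈ Us K m) (hh : h ∈ Hs K m) (hy : y ∈ Us K m) : (u * h) * y * (u * h)⁻¹ ∈ Us K m := by
  have e : (u * h) * y * (u * h)⁻¹ = u * (h * y * h⁻¹) * u⁻¹ := by group
  rw [e]
  exact mul_mem (mul_mem hu (Hs_norm_Us hK h hh y hy)) (inv_mem hu)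

theorem UH_le_normalizer (hK : Fintype.card K = 3 ^ (2 * m + 1)) (u h : ↥(twistedG2 K (3 ^ m)))
    (hu : u ∈ Us K m) (hh : h ∈ Hs K m) :
    u * h ∈ Subgroup.normalizer ((Us K m : Subgroup ↥(twistedG2 K (3 ^ m))) : Set ↥(twistedG2 K (3 ^ m))) := by
  rw [Subgroup.mem_normalizer_iff]
  intro y
  constructor
  · exact UH_conj_mem hK u h y hu hh
  · intro hy
    -- `(u h)⁻¹ = (h⁻¹ u⁻¹ h) h⁻¹`
    have hu' : h⁻¹ * u⁻¹ * h⁻¹⁻¹ ∈ Us K m := Hs_norm_Us hK h⁻¹ (inv_mem hh) u⁻¹ (inv_mem hu)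
    have := UH_conj_mem hK (h⁻¹ * u⁻¹ * h⁻¹⁻¹) h⁻¹ _ hu' (inv_mem hh) hy
    have e : (h⁻¹ * u⁻¹ * h⁻¹⁻¹ * h⁻¹) * (u * h * y * (u * h)⁻¹) * (h⁻¹ * u⁻¹ * h⁻¹⁻¹ * h⁻¹)⁻¹ = y := by group
    rwa [e] at this

theorem exists_ne_one_Us (hK : Fintype.card K = 3 ^ (2 * m + 1)) : ∃ x ∈ Us K m, x ≠ 1 := by
  have hc := card_Us (K := K) (m := m) hK
  by_contra hcon
  have hbot : Us K m = ⊥ := by
    rw [eq_bot_iff]
    intro x hx
    rw [Subgroup.mem_bot]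
    by_contra h
    exact hcon ⟨x, hx, h⟩
  rw [hbot, Subgroup.card_bot] at hc
  have : 1 < (3 ^ (2 * m + 1)) ^ 3 := Nat.one_lt_pow (by norm_num) (Nat.one_lt_pow (by omega) (by norm_num))
  omega

/-- `|N(U¹)| = q³ (q - 1)`. -/
theorem card_normalizer_Us (hK : Fintype.card K = 3 ^ (2 * m + 1)) :
    Nat.card ↥(Subgroup.normalizer ((Us K m : Subgroup ↥(twistedG2 K (3 ^ m))) : Set ↥(twistedG2 K (3 ^ m))))
      = (3 ^ (2 * m + 1)) ^ 3 * (3 ^ (2 * m + 1) - 1) := by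
  let f : ↥(Us K m) × ↥(Hs K m) →
      ↥(Subgroup.normalizer ((Us K m : Subgroup ↥(twistedG2 K (3 ^ m))) : Set ↥(twistedG2 K (3 ^ m)))) :=
    fun p => ⟨p.1.1 * p.2.1, UH_le_normalizer hK _ _ p.1.2 p.2.2⟩
  have hf : Function.Bijective f := by
    constructor
    · rintro ⟨⟨u, hu⟩, ⟨h, hh⟩⟩ ⟨⟨u', hu'⟩, ⟨h', hh'⟩⟩ e
      have e' : u * h = u' * h' := congrArg Subtype.val e
      have e1 : u'⁻¹ * u = h' * h⁻¹ := by
        calc u'⁻¹ * u = u'⁻¹ * (u * h) * h⁻¹ := by group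
          _ = u'⁻¹ * (u' * h') * h⁻¹ := by rw [e']
          _ = h' * h⁻¹ := by group
      have h1 : u'⁻¹ * u = 1 :=
        Us_inf_Hs hK _ (mul_mem (inv_mem hu') hu) (by rw [e1]; exact mul_mem hh' (inv_mem hh))
      have hu_eq : u = u' := by
        have := inv_mul_eq_one.mp h1
        exact this.symm
      subst hu_eq
      have hh_eq : h = h' := mul_left_cancel e'
      subst hh_eq
      rfl
    · rintro ⟨g, hg⟩
      obtain ⟨x, hx, hx1⟩ := exists_ne_one_Us (K := K) (m := m) hK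
      obtain ⟨u, hu, h, hh, e⟩ := mem_UH_of_conj hK x g hx hx1 ((Subgroup.mem_normalizer_iff.mp hg x).mp hx)
      exact ⟨(⟨u, hu⟩, ⟨h, hh⟩), Subtype.ext e.symm⟩
  rw [← Nat.card_congr (Equiv.ofBijective f hf), Nat.card_prod, card_Us hK, card_Hs hK]

/-- A `3`-subgroup is conjugate into `U¹`. -/
theorem exists_conj_mem_Us (hK : Fintype.card K = 3 ^ (2 * m + 1)) (R : Subgroup ↥(twistedG2 K (3 ^ m)))
    (hR : IsPGroup 3 ↥R) : ∃ g : ↥(twistedG2 K (3 ^ m)), ∀ x ∈ R, g * x * g⁻¹ ∈ Us K m := by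
  haveI : Fact (Nat.Prime 3) := ⟨Nat.prime_three⟩
  have hfac : (Nat.card ↥(twistedG2 K (3 ^ m))).factorization 3 = (Nat.card ↥(Us K m)).factorization 3 := by
    rw [ree_card hK, card_Us hK]
    exact factorization_three (2 * m + 1) (by omega)
  exact exists_conj_mem_of_factorization (Us K m) hfac R hR

theorem Us_pow_nine (hK : Fintype.card K = 3 ^ (2 * m + 1)) (x : ↥(twistedG2 K (3 ^ m))) (hx : x ∈ Us K m) :
    x ^ 9 = 1 := by
  have hmem : (x : GL chevG2.Idx K) ∈ chevG2.posUnipotent K ⊓ twistedG2 K (3 ^ m) :=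
    ⟨Subgroup.mem_subgroupOf.mp hx, x.2⟩
  obtain ⟨t, u, v, e⟩ := (Cfsg.Agent.Lib.Helper61.ChevJ.G2ReeV.U_twisted_iff hK _).mp hmem
  apply Subtype.ext
  rw [Subgroup.coe_pow, e]
  exact Cfsg.Agent.Lib.Helper20.ReeCube.reeU_pow_nine (3 ^ m) t u v

/-- The counting formula for a conjugation-invariant class of non-trivial `3`-elements. -/
theorem card_class_three (hK : Fintype.card K = 3 ^ (2 * m + 1))
    (P : ↥(twistedG2 K (3 ^ m)) → Prop) (hP : ∀ g x : ↥(twistedG2 K (3 ^ m)), P x → P (g * x * g⁻¹))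
    (hP2 : ∀ x : ↥(twistedG2 K (3 ^ m)), P x → x ≠ 1 ∧ x ^ 9 = 1) :
    Nat.card {x : ↥(twistedG2 K (3 ^ m)) // P x} * ((3 ^ (2 * m + 1)) ^ 3 * (3 ^ (2 * m + 1) - 1))
      = Nat.card {x : ↥(twistedG2 K (3 ^ m)) // P x ∧ x ∈ Us K m} * Nat.card ↥(twistedG2 K (3 ^ m)) := by
  rw [← card_normalizer_Us hK]
  apply card_mul_card_normalizer_eq (Us K m) P hP
  · intro x hx
    have hp : IsPGroup 3 ↥(Subgroup.zpowers x) := by
      have hd : orderOf x ∣ 3 ^ 2 := orderOf_dvd_of_pow_eq_one (by norm_num; exact (hP2 x hx).2)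
      obtain ⟨j, -, hj⟩ := (Nat.dvd_prime_pow Nat.prime_three).mp hd
      apply IsPGroup.of_card (n := j)
      rw [Nat.card_zpowers, hj]
    obtain ⟨g, hg⟩ := exists_conj_mem_Us hK _ hp
    exact ⟨g, hg x (Subgroup.mem_zpowers x)⟩
  · intro x hxU hx g hg
    obtain ⟨u, hu, h, hh, e⟩ := mem_UH_of_conj hK x g hxU (hP2 x hx).1 hg
    rw [e]
    exact UH_le_normalizer hK u h hu hh

theorem card_ne_one {α : Type*} [Group α] [Finite α] : Nat.card {y : α // y ≠ 1} = Nat.card α - 1 := by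
  classical
  haveI : Fintype α := Fintype.ofFinite α
  rw [Nat.card_eq_fintype_card, Nat.card_eq_fintype_card, Fintype.card_subtype_compl, Fintype.card_subtype_eq]

theorem orderOf_conj' {G : Type*} [Group G] (g x : G) : orderOf (g * x * g⁻¹) = orderOf x := by
  have : g * x * g⁻¹ = (MulAut.conj g) x := by simp [MulAut.conj_apply]
  rw [this, MulEquiv.orderOf_eq]

/-- `U¹` has `q² - 1` elements of order `3` (S1154). -/
theorem card_Us_order_three (hm : 1 ≤ m) (hK : Fintype.card K = 3 ^ (2 * m + 1)) :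
    Nat.card {x : ↥(twistedG2 K (3 ^ m)) // orderOf x = 3 ∧ x ∈ Us K m} = (3 ^ (2 * m + 1)) ^ 2 - 1 := by
  rw [← Cfsg.Agent.S1154.result hm hK]
  apply Nat.card_congr
  exact {
    toFun := fun x => ⟨⟨x.1.1, Subgroup.mem_inf.mpr ⟨Subgroup.mem_subgroupOf.mp x.2.2, x.1.2⟩⟩, by
      rw [← Subgroup.orderOf_coe]
      show orderOf (x.1.1) = 3
      rw [Subgroup.orderOf_coe]
      exact x.2.1⟩
    invFun := fun y => ⟨⟨y.1.1, (Subgroup.mem_inf.mp y.1.2).2⟩, by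
      constructor
      · rw [← Subgroup.orderOf_coe]
        show orderOf (y.1.1) = 3
        rw [Subgroup.orderOf_coe]
        exact y.2
      · exact Subgroup.mem_subgroupOf.mpr (Subgroup.mem_inf.mp y.1.2).1⟩
    left_inv := fun x => rfl
    right_inv := fun y => rfl }

theorem card_G_pos (hK : Fintype.card K = 3 ^ (2 * m + 1)) :
    0 < (3 ^ (2 * m + 1)) ^ 3 * (3 ^ (2 * m + 1) - 1) := by
  have : 1 < 3 ^ (2 * m + 1) := Nat.one_lt_pow (by omega) (by norm_num)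
  have h1 : 0 < 3 ^ (2 * m + 1) - 1 := by omega
  positivity

/-- `²G₂(q)` has `(q² - 1)(q³ + 1)` elements of order `3`. -/
theorem card_order_three (hm : 1 ≤ m) (hK : Fintype.card K = 3 ^ (2 * m + 1)) :
    Nat.card {x : ↥(twistedG2 K (3 ^ m)) // orderOf x = 3}
      = ((3 ^ (2 * m + 1)) ^ 2 - 1) * ((3 ^ (2 * m + 1)) ^ 3 + 1) := by
  have h := card_class_three hK (fun x => orderOf x = 3)
    (fun g x hx => by show orderOf (g * x * g⁻¹) = 3; rw [orderOf_conj']; exact hx)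
    (fun x hx => by
      have hx' : orderOf x = 3 := hx
      constructor
      · intro h1
        rw [h1, orderOf_one] at hx'
        norm_num at hx'
      · apply orderOf_dvd_iff_pow_eq_one.mp
        rw [hx']
        norm_num)
  rw [card_Us_order_three hm hK, ree_card hK] at h
  apply Nat.eq_of_mul_eq_mul_right (card_G_pos hK)
  rw [h]
  ring

/-- `²G₂(q)` has `(q³ - 1)(q³ + 1)` non-trivial `3`-elements. -/
theorem card_three_elements (hK : Fintype.card K = 3 ^ (2 * m + 1)) :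
    Nat.card {x : ↥(twistedG2 K (3 ^ m)) // x ≠ 1 ∧ x ^ 9 = 1}
      = ((3 ^ (2 * m + 1)) ^ 3 - 1) * ((3 ^ (2 * m + 1)) ^ 3 + 1) := by
  have h := card_class_three hK (fun x => x ≠ 1 ∧ x ^ 9 = 1)
    (fun g x hx => by
      constructor
      · intro h1
        apply hx.1
        have : x = g⁻¹ * (g * x * g⁻¹) * g := by group
        rw [this, h1]; group
      · rw [conj_pow, hx.2]; group)
    (fun x hx => hx)
  have hU : Nat.card {x : ↥(twistedG2 K (3 ^ m)) // (x ≠ 1 ∧ x ^ 9 = 1) ∧ x ∈ Us K m}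
      = (3 ^ (2 * m + 1)) ^ 3 - 1 := by
    rw [← card_Us hK, ← card_ne_one (α := ↥(Us K m))]
    apply Nat.card_congr
    exact {
      toFun := fun x => ⟨⟨x.1, x.2.2⟩, fun h => x.2.1.1 (congrArg Subtype.val h)⟩
      invFun := fun y => ⟨y.1.1, ⟨fun h => y.2 (Subtype.ext h), Us_pow_nine hK _ y.1.2⟩, y.1.2⟩
      left_inv := fun x => rfl
      right_inv := fun y => rfl }
  rw [hU, ree_card hK] at h
  apply Nat.eq_of_mul_eq_mul_right (card_G_pos hK)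
  rw [h]
  ring

/-- An element of order `9`. -/
theorem exists_order_nine (hK : Fintype.card K = 3 ^ (2 * m + 1)) :
    ∃ x : ↥(twistedG2 K (3 ^ m)), orderOf x = 9 := by
  have hθ : (3 : ℕ) ^ m ≠ 0 := pow_ne_zero _ (by norm_num)
  have hmem := (Cfsg.Agent.Lib.Helper61.ChevJ.G2ReeV.U_twisted_iff hK
    (wordG Cfsg.Agent.Lib.Helper61.ChevJ.G2Short.hG2 (reeWordU (3 ^ m) (1 : K) 0 0))).mpr ⟨1, 0, 0, rfl⟩
  refine ⟨⟨_, (Subgroup.mem_inf.mp hmem).2⟩, ?_⟩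
  rw [← Subgroup.orderOf_coe]
  show orderOf (wordG Cfsg.Agent.Lib.Helper61.ChevJ.G2Short.hG2 (reeWordU (3 ^ m) (1 : K) 0 0)) = 9
  have h9 := Cfsg.Agent.Lib.Helper20.ReeCube.reeU_pow_nine (F := K) (3 ^ m) 1 0 0
  have h3 : ¬ wordG Cfsg.Agent.Lib.Helper61.ChevJ.G2Short.hG2 (reeWordU (3 ^ m) (1 : K) 0 0) ^ 3 = 1 := by
    rw [Cfsg.Agent.Lib.Helper20.ReeCube.reeU_cube_eq_one_iff (3 ^ m) hθ]
    exact one_ne_zero
  have hd : orderOf (wordG Cfsg.Agent.Lib.Helper61.ChevJ.G2Short.hG2 (reeWordU (3 ^ m) (1 : K) 0 0)) ∣ 3 ^ 2 :=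
    orderOf_dvd_of_pow_eq_one (by norm_num; exact h9)
  obtain ⟨j, hj, e⟩ := (Nat.dvd_prime_pow Nat.prime_three).mp hd
  interval_cases j
  · exfalso; apply h3
    rw [pow_zero] at e
    rw [orderOf_eq_one_iff.mp e, one_pow]
  · exfalso; apply h3
    rw [pow_one] at e
    have := pow_orderOf_eq_one (wordG Cfsg.Agent.Lib.Helper61.ChevJ.G2Short.hG2 (reeWordU (3 ^ m) (1 : K) 0 0))
    rw [e] at this
    exact this
  · rw [e]; norm_num

end Cfsg.Agent.Lib.Helper61.ReeW2
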