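/-
helper61 (project REEW2): involutions of `²G₂(q)`: `|C(t)| = q(q² - 1)`, there are `q²(q² - q + 1)` of them, each
centralises `q² - 1` elements of order `3`; there are `q²(q - 1)(q³ + 1)` elements of order `6`; the centraliser of a
four-group has order `2(q + 1)`.
-/
import Cfsg.Agent.Lib.Helper61.ReeW.CentAdd
import Cfsg.Agent.Lib.Helper61.ReeW2.NormU
import Cfsg.Agent.Lib.Helper14.PSL2Arith
import Cfsg.Agent.Lib.Helper20.PSL2Klein
import Cfsg.Agent.Lib.Helper37.ReeW2Two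
import Cfsg.Agent.Lib.Helper36.ReeW2Psl2Inv
import Cfsg.Agent.Lib.Helper36.ReeW2Psl23
import Cfsg.Agent.Lib.Helper51.ReeW2Z2

set_option autoImplicit false
set_option linter.unusedSectionVars false

namespace Cfsg.Agent.Lib.Helper61.ReeW2

open Cfsg.Lie Cfsg.Agent.Lib.Helper61.ReeInv Cfsg.Agent.Lib.Helper61.ReeW Cfsg.Agent.Lib.Helper37.ReeW2 Cfsg.Agent.Lib.Helper36.ReeW2 Cfsg.Agent.Lib.Helper51.ReeW2
open scoped MatrixGroups

universe u

variable {K : Type u} [Field K] [Fintype K] [CharP K 3] {m : ℕ}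

theorem card_PSL2_ree (hK : Fintype.card K = 3 ^ (2 * m + 1)) :
    2 * Nat.card (Matrix.ProjectiveSpecialLinearGroup (Fin 2) K)
      = 3 ^ (2 * m + 1) * ((3 ^ (2 * m + 1)) ^ 2 - 1) := by
  have h := Cfsg.Agent.Lib.Helper14.card_PSL2_mul_gcd (F := K)
  rw [hK] at h
  have h8 := q_mod_eight m
  have hg : Nat.gcd 2 (3 ^ (2 * m + 1) - 1) = 2 := by
    apply Nat.gcd_eq_left
    omega
  rw [hg] at h
  have hq1 : 1 ≤ 3 ^ (2 * m + 1) := Nat.one_le_pow _ _ (by norm_num)
  have e : (3 ^ (2 * m + 1)) ^ 2 - 1 = (3 ^ (2 * m + 1) - 1) * (3 ^ (2 * m + 1) + 1) := by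
    zify [hq1, show 1 ≤ (3 ^ (2 * m + 1)) ^ 2 from Nat.one_le_pow _ _ (by omega)]
    ring
  rw [e, mul_comm 2, h]
  ring

/-- `|C(t)| = q (q² - 1)` for every involution `t`. -/
theorem card_centralizer_invol (hm : 1 ≤ m) (hK : Fintype.card K = 3 ^ (2 * m + 1)) (t : ↥(twistedG2 K (3 ^ m)))
    (ht : orderOf t = 2) :
    Nat.card ↥(Subgroup.centralizer {t}) = 3 ^ (2 * m + 1) * ((3 ^ (2 * m + 1)) ^ 2 - 1) := by
  obtain ⟨e⟩ := invol_iso hm hK t ht
  rw [Nat.card_congr e.toEquiv, Nat.card_prod, ← card_PSL2_ree hK]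
  congr 1
  simp [Nat.card_eq_fintype_card]

theorem mem_zpowers_invol {G : Type*} [Group G] (t : G) (ht2 : t ^ 2 = 1) (x : G) :
    x ∈ Subgroup.zpowers t ↔ x = 1 ∨ x = t := by
  rw [Subgroup.mem_zpowers_iff]
  constructor
  · rintro ⟨k, rfl⟩
    rcases Int.emod_two_eq_zero_or_one k with h | h
    · left
      have : k = 2 * (k / 2) := by omega
      rw [this, zpow_mul, zpow_ofNat, ht2, one_zpow]
    · right
      have : k = 2 * (k / 2) + 1 := by omega
      rw [this, zpow_add, zpow_mul, zpow_ofNat, ht2, one_zpow, one_mul, zpow_one]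
  · rintro (h | h)
    · exact ⟨0, by rw [h, zpow_zero]⟩
    · exact ⟨1, by rw [h, zpow_one]⟩

theorem normalizer_zpowers_invol {G : Type*} [Group G] (t : G) (ht : orderOf t = 2) :
    Subgroup.normalizer ((Subgroup.zpowers t : Subgroup G) : Set G) = Subgroup.centralizer {t} := by
  have ht2 : t ^ 2 = 1 := by rw [← ht]; exact pow_orderOf_eq_one t
  have ht1 : t ≠ 1 := by
    intro h
    rw [h, orderOf_one] at ht
    norm_num at ht
  have hmem : ∀ x : G, x ∈ Subgroup.zpowers t ↔ x = 1 ∨ x = t := mem_zpowers_invol t ht2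
  ext g
  rw [Subgroup.mem_normalizer_iff, Subgroup.mem_centralizer_singleton_iff]
  constructor
  · intro h
    have h1 := (h t).mp (Subgroup.mem_zpowers t)
    rcases (hmem _).mp h1 with h2 | h2
    · exfalso
      apply ht1
      have : t = g⁻¹ * (g * t * g⁻¹) * g := by group
      rw [this, h2]; group
    · calc g * t = (g * t * g⁻¹) * g := by group
        _ = t * g := by rw [h2]
  · intro h x
    have hc : g * t * g⁻¹ = t := by rw [h]; group
    constructor
    · intro hx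
      rcases (hmem x).mp hx with rfl | rfl
      · simp
      · rw [hc]; exact Subgroup.mem_zpowers _
    · intro hx
      rcases (hmem _).mp hx with h2 | h2
      · have : x = g⁻¹ * (g * x * g⁻¹) * g := by group
        rw [this, h2]; simp
      · have : x = g⁻¹ * (g * x * g⁻¹) * g := by group
        rw [this, h2]
        have hc' : g⁻¹ * t * g = t := by
          calc g⁻¹ * t * g = g⁻¹ * (t * g) := by group
            _ = g⁻¹ * (g * t) := by rw [h]
            _ = t := by group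
        rw [hc']
        exact Subgroup.mem_zpowers _

/-- `²G₂(q)` has `q² (q² - q + 1)` involutions. -/
theorem card_invol (hm : 1 ≤ m) (hK : Fintype.card K = 3 ^ (2 * m + 1)) :
    Nat.card {t : ↥(twistedG2 K (3 ^ m)) // orderOf t = 2}
      = (3 ^ (2 * m + 1)) ^ 2 * ((3 ^ (2 * m + 1)) ^ 2 - 3 ^ (2 * m + 1) + 1) := by
  have h := card_mul_card_normalizer_eq (Subgroup.zpowers (h0T K m)) (fun x => orderOf x = 2)
    (fun g x hx => by show orderOf (g * x * g⁻¹) = 2; rw [orderOf_conj']; exact hx)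
    (fun x hx => by
      obtain ⟨g, hg⟩ := invol_conj hm hK x hx
      refine ⟨g⁻¹, ?_⟩
      rw [hg]
      have : g⁻¹ * (g * h0T K m * g⁻¹) * g⁻¹⁻¹ = h0T K m := by group
      rw [this]
      exact Subgroup.mem_zpowers _)
    (fun x hxH hx g hg => by
      rw [normalizer_zpowers_invol _ orderOf_h0T, Subgroup.mem_centralizer_singleton_iff]
      have hx' : orderOf x = 2 := hx
      have key : ∀ y ∈ Subgroup.zpowers (h0T K m), orderOf y = 2 → y = h0T K m := by
        intro y hy hy2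
        rcases (mem_zpowers_invol (h0T K m) (by rw [pow_two]; exact h0T_sq) y).mp hy with rfl | rfl
        · rw [orderOf_one] at hy2; norm_num at hy2
        · rfl
      have e1 := key x hxH hx'
      have e2 := key _ hg (by rw [orderOf_conj']; exact hx')
      rw [e1] at e2
      calc g * h0T K m = (g * h0T K m * g⁻¹) * g := by group
        _ = h0T K m * g := by rw [e2])
  have hone : Nat.card {x : ↥(twistedG2 K (3 ^ m)) // orderOf x = 2 ∧ x ∈ Subgroup.zpowers (h0T K m)} = 1 := by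
    rw [Nat.card_eq_one_iff_unique]
    refine ⟨⟨?_⟩, ⟨⟨h0T K m, orderOf_h0T, Subgroup.mem_zpowers _⟩⟩⟩
    rintro ⟨x, hx2, hxm⟩ ⟨y, hy2, hym⟩
    apply Subtype.ext
    show x = y
    have key : ∀ y ∈ Subgroup.zpowers (h0T K m), orderOf y = 2 → y = h0T K m := by
      intro y hy hy2
      rcases (mem_zpowers_invol (h0T K m) (by rw [pow_two]; exact h0T_sq) y).mp hy with rfl | rfl
      · rw [orderOf_one] at hy2; norm_num at hy2
      · rfl
    rw [key x hxm hx2, key y hym hy2]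
  rw [hone, one_mul, normalizer_zpowers_invol _ orderOf_h0T, card_centralizer_invol hm hK _ orderOf_h0T,
    ree_card hK] at h
  have hq1 : 1 < 3 ^ (2 * m + 1) := Nat.one_lt_pow (by omega) (by norm_num)
  have hpos : 0 < 3 ^ (2 * m + 1) * ((3 ^ (2 * m + 1)) ^ 2 - 1) := by
    have : 1 < (3 ^ (2 * m + 1)) ^ 2 := Nat.one_lt_pow (by norm_num) hq1
    have h1 : 0 < (3 ^ (2 * m + 1)) ^ 2 - 1 := by omega
    positivity
  apply Nat.eq_of_mul_eq_mul_right hpos
  rw [h]
  have hq1' : 1 ≤ 3 ^ (2 * m + 1) := hq1.le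
  have hle : 3 ^ (2 * m + 1) ≤ (3 ^ (2 * m + 1)) ^ 2 := by nlinarith
  zify [hq1', hle, show 1 ≤ (3 ^ (2 * m + 1)) ^ 2 from Nat.one_le_pow _ _ (by omega)]
  ring

theorem center_PSL2_ree (hm : 1 ≤ m) (hK : Fintype.card K = 3 ^ (2 * m + 1)) :
    Subgroup.center (Matrix.ProjectiveSpecialLinearGroup (Fin 2) K) = ⊥ := by
  apply Cfsg.Agent.Lib.Helper20.PSL2Klein.center_eq_bot hK (Or.inl (q_mod_eight m))
  calc 3 < 3 ^ 3 := by norm_num
    _ ≤ 3 ^ (2 * m + 1) := Nat.pow_le_pow_right (by norm_num) (by omega)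

/-- An involution centralises exactly `q² - 1` elements of order `3`. -/
theorem card_order_three_centralizer (hm : 1 ≤ m) (hK : Fintype.card K = 3 ^ (2 * m + 1))
    (t : ↥(twistedG2 K (3 ^ m))) (ht : orderOf t = 2) :
    Nat.card {u : ↥(twistedG2 K (3 ^ m)) // orderOf u = 3 ∧ u * t = t * u} = (3 ^ (2 * m + 1)) ^ 2 - 1 := by
  obtain ⟨e⟩ := invol_iso hm hK t ht
  have htC : t ∈ Subgroup.centralizer {t} := Subgroup.mem_centralizer_singleton_iff.mpr rfl
  have hz : orderOf (⟨t, htC⟩ : ↥(Subgroup.centralizer {t})) = 2 := by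
    rw [← Subgroup.orderOf_coe]; exact ht
  have hzc : ∀ x : ↥(Subgroup.centralizer {t}), x * ⟨t, htC⟩ = ⟨t, htC⟩ * x := by
    intro x
    apply Subtype.ext
    exact Subgroup.mem_centralizer_singleton_iff.mp x.2
  have h1 := (z2_prod_facts (center_PSL2_ree hm hK) e ⟨t, htC⟩ hz hzc).1
  rw [psl2_card_order_three, hK] at h1
  rw [← h1]
  apply Nat.card_congr
  exact {
    toFun := fun u => ⟨⟨u.1, Subgroup.mem_centralizer_singleton_iff.mpr u.2.2⟩, by
      rw [← Subgroup.orderOf_coe]; exact u.2.1⟩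
    invFun := fun y => ⟨y.1.1, by rw [Subgroup.orderOf_coe]; exact y.2,
      Subgroup.mem_centralizer_singleton_iff.mp y.1.2⟩
    left_inv := fun u => rfl
    right_inv := fun y => rfl }

/-- `²G₂(q)` has `q² (q - 1)(q³ + 1)` elements of order `6`. -/
theorem card_order_six (hm : 1 ≤ m) (hK : Fintype.card K = 3 ^ (2 * m + 1)) :
    Nat.card {x : ↥(twistedG2 K (3 ^ m)) // orderOf x = 6}
      = (3 ^ (2 * m + 1)) ^ 2 * (3 ^ (2 * m + 1) - 1) * ((3 ^ (2 * m + 1)) ^ 3 + 1) := by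
  have h := card_orderOf_two_mul 3 (by decide) (h0T K m) orderOf_h0T (fun t ht => invol_conj hm hK t ht)
  rw [card_invol hm hK, card_order_three_centralizer hm hK _ orderOf_h0T] at h
  rw [show (6 : ℕ) = 2 * 3 from rfl, h]
  have hq1 : 1 ≤ 3 ^ (2 * m + 1) := Nat.one_le_pow _ _ (by norm_num)
  have hle : 3 ^ (2 * m + 1) ≤ (3 ^ (2 * m + 1)) ^ 2 := by nlinarith
  zify [hq1, hle, show 1 ≤ (3 ^ (2 * m + 1)) ^ 2 from Nat.one_le_pow _ _ (by omega)]
  ring

/-- The centraliser of a four-group has order `2 (q + 1)`. -/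
theorem card_centralizer_four (hm : 1 ≤ m) (hK : Fintype.card K = 3 ^ (2 * m + 1))
    (t₁ t₂ : ↥(twistedG2 K (3 ^ m))) (h1 : orderOf t₁ = 2) (h2 : orderOf t₂ = 2) (hne : t₁ ≠ t₂)
    (hc : t₁ * t₂ = t₂ * t₁) :
    Nat.card ↥(Subgroup.centralizer {t₁} ⊓ Subgroup.centralizer {t₂} : Subgroup ↥(twistedG2 K (3 ^ m)))
      = 2 * (3 ^ (2 * m + 1) + 1) := by
  obtain ⟨e⟩ := invol_iso hm hK t₁ h1
  have ht₁C : t₁ ∈ Subgroup.centralizer {t₁} := Subgroup.mem_centralizer_singleton_iff.mpr rfl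
  have ht₂C : t₂ ∈ Subgroup.centralizer {t₁} := Subgroup.mem_centralizer_singleton_iff.mpr hc.symm
  have hz : orderOf (⟨t₁, ht₁C⟩ : ↥(Subgroup.centralizer {t₁})) = 2 := by
    rw [← Subgroup.orderOf_coe]; exact h1
  have ht : orderOf (⟨t₂, ht₂C⟩ : ↥(Subgroup.centralizer {t₁})) = 2 := by
    rw [← Subgroup.orderOf_coe]; exact h2
  have hzc : ∀ x : ↥(Subgroup.centralizer {t₁}), x * ⟨t₁, ht₁C⟩ = ⟨t₁, ht₁C⟩ * x := by
    intro x
    apply Subtype.ext
    exact Subgroup.mem_centralizer_singleton_iff.mp x.2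
  have htz : (⟨t₂, ht₂C⟩ : ↥(Subgroup.centralizer {t₁})) ≠ ⟨t₁, ht₁C⟩ := by
    intro h
    exact hne (congrArg Subtype.val h).symm
  obtain ⟨v, hv, hcard⟩ := (z2_prod_facts (center_PSL2_ree hm hK) e ⟨t₁, ht₁C⟩ hz hzc).2 ⟨t₂, ht₂C⟩ ht htz
  have hq4 : Fintype.card K % 4 = 3 := by
    rw [hK]
    have := q_mod_eight m
    omega
  rw [psl2_centralizer_involution hq4 v hv, hK] at hcard
  rw [← hcard]
  apply Nat.card_congr
  exact {
    toFun := fun x => ⟨⟨x.1, (Subgroup.mem_inf.mp x.2).1⟩, by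
      rw [Subgroup.mem_centralizer_singleton_iff]
      apply Subtype.ext
      exact Subgroup.mem_centralizer_singleton_iff.mp (Subgroup.mem_inf.mp x.2).2⟩
    invFun := fun y => ⟨y.1.1, Subgroup.mem_inf.mpr ⟨y.1.2, by
      have := Subgroup.mem_centralizer_singleton_iff.mp y.2
      exact Subgroup.mem_centralizer_singleton_iff.mpr (congrArg Subtype.val this)⟩⟩
    left_inv := fun x => rfl
    right_inv := fun y => rfl }

end Cfsg.Agent.Lib.Helper61.ReeW2
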