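/-
helper61 (project REEW2): the orders of the elements of `²G₂(q)`: every element `≠ 1` has order dividing `9`, or `6`,
or dividing `q - 1`, `(q + 1)/2` or `N = q² - q + 1`; elements commuting with an element of order dividing `N` have
order dividing `N`.
-/
import Cfsg.Agent.Lib.Helper61.ReeW2.InvCount
import Cfsg.Agent.Lib.Helper11.ReeW2Psl2Exp3

set_option autoImplicit false
set_option linter.unusedSectionVars false

namespace Cfsg.Agent.Lib.Helper61.ReeW2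

open Cfsg.Lie Cfsg.Agent.Lib.Helper61.ReeInv Cfsg.Agent.Lib.Helper61.ReeW Cfsg.Agent.Lib.Helper11.ReeW2

universe u

/-! ### Arithmetic -/

theorem N_eq (e : ℕ) : (3 ^ e) ^ 2 - 3 ^ e + 1 = 3 ^ e * (3 ^ e - 1) + 1 := by
  have h1 : 1 ≤ 3 ^ e := Nat.one_le_pow _ _ (by norm_num)
  have hle : 3 ^ e ≤ (3 ^ e) ^ 2 := by nlinarith
  zify [h1, hle]
  ring

/-- `|G| = N · q³ (q - 1)(q + 1)`. -/
theorem card_eq_N_mul (e : ℕ) :
    (3 ^ e) ^ 3 * (3 ^ e - 1) * ((3 ^ e) ^ 3 + 1)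
      = ((3 ^ e) ^ 2 - 3 ^ e + 1) * ((3 ^ e) ^ 3 * (3 ^ e - 1) * (3 ^ e + 1)) := by
  have h1 : 1 ≤ 3 ^ e := Nat.one_le_pow _ _ (by norm_num)
  have hle : 3 ^ e ≤ (3 ^ e) ^ 2 := by nlinarith
  zify [h1, hle]
  ring

/-- A prime dividing `|G|`. -/
theorem prime_cases (e : ℕ) (he : 0 < e) (p : ℕ) (hp : p.Prime)
    (h : p ∣ (3 ^ e) ^ 3 * (3 ^ e - 1) * ((3 ^ e) ^ 3 + 1)) :
    p = 3 ∨ p = 2 ∨ (p ≠ 2 ∧ p ∣ 3 ^ e - 1) ∨ (p ≠ 2 ∧ p ∣ 3 ^ e + 1) ∨ p ∣ (3 ^ e) ^ 2 - 3 ^ e + 1 := by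
  rw [card_eq_N_mul] at h
  by_cases h2 : p = 2
  · exact Or.inr (Or.inl h2)
  rcases hp.dvd_mul.mp h with h | h
  · exact Or.inr (Or.inr (Or.inr (Or.inr h)))
  rcases hp.dvd_mul.mp h with h | h
  · rcases hp.dvd_mul.mp h with h | h
    · left
      have := hp.dvd_of_dvd_pow (hp.dvd_of_dvd_pow h)
      exact (Nat.prime_dvd_prime_iff_eq hp Nat.prime_three).mp this
    · exact Or.inr (Or.inr (Or.inl ⟨h2, h⟩))
  · exact Or.inr (Or.inr (Or.inr (Or.inl ⟨h2, h⟩)))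

/-- Facts on a prime `p ∣ N`. -/
theorem prime_N_facts' (e : ℕ) (he : 0 < e) (p : ℕ) (hp : p.Prime) (h : p ∣ (3 ^ e) ^ 2 - 3 ^ e + 1) :
    p ≠ 2 ∧ p ≠ 3 ∧ 3 < p ∧ p ∣ (3 ^ e) ^ 3 + 1 ∧ ¬ p ∣ 3 ^ e + 1 ∧ ¬ p ∣ 3 ^ e - 1 ∧ ¬ p ∣ 3 ^ e := by
  rw [N_eq] at h
  obtain ⟨h2, h3, h4, h5⟩ := prime_N_facts e he p hp h
  refine ⟨h2, by omega, h3, h4, h5, ?_, ?_⟩
  · intro h'
    have := (Nat.dvd_add_right (Dvd.dvd.mul_left h' (3 ^ e))).mp h
    exact hp.one_lt.ne' (Nat.dvd_one.mp this)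
  · intro h'
    have := (Nat.dvd_add_right (Dvd.dvd.mul_right h' (3 ^ e - 1))).mp h
    exact hp.one_lt.ne' (Nat.dvd_one.mp this)

/-- `N` is prime to `q³ (q - 1)(q + 1)`. -/
theorem coprime_N (e : ℕ) (he : 0 < e) :
    Nat.Coprime ((3 ^ e) ^ 2 - 3 ^ e + 1) ((3 ^ e) ^ 3 * (3 ^ e - 1) * (3 ^ e + 1)) := by
  apply Nat.coprime_of_dvd
  intro p hp h1 h2
  obtain ⟨-, -, -, -, h5, h6, h7⟩ := prime_N_facts' e he p hp h1
  rcases hp.dvd_mul.mp h2 with h | h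
  · rcases hp.dvd_mul.mp h with h | h
    · exact h7 (hp.dvd_of_dvd_pow h)
    · exact h6 h
  · exact h5 h

/-- A divisor of `|G|` all of whose prime divisors divide `N` divides `N`. -/
theorem dvd_N_of_primes (e : ℕ) (he : 0 < e) (d : ℕ)
    (hd : d ∣ (3 ^ e) ^ 3 * (3 ^ e - 1) * ((3 ^ e) ^ 3 + 1))
    (h : ∀ s : ℕ, s.Prime → s ∣ d → s ∣ (3 ^ e) ^ 2 - 3 ^ e + 1) : d ∣ (3 ^ e) ^ 2 - 3 ^ e + 1 := by
  rw [card_eq_N_mul] at hd
  apply Nat.Coprime.dvd_of_dvd_mul_right _ hd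
  apply Nat.coprime_of_dvd
  intro s hs h1 h2
  have hc := coprime_N e he
  have h3 : s ∣ Nat.gcd ((3 ^ e) ^ 2 - 3 ^ e + 1) ((3 ^ e) ^ 3 * (3 ^ e - 1) * (3 ^ e + 1)) :=
    Nat.dvd_gcd (h s hs h1) h2
  rw [hc] at h3
  exact hs.one_lt.ne' (Nat.dvd_one.mp h3)

/-- `o ∣ 4k`, `4 ∤ o` gives `o ∣ 2k`. -/
theorem dvd_two_mul_of_not_four_dvd (o k : ℕ) (h : o ∣ 4 * k) (h4 : ¬ 4 ∣ o) : o ∣ 2 * k := by
  rcases Nat.even_or_odd o with he | ho
  · obtain ⟨c, rfl⟩ := he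
    have hc : Odd c := by
      by_contra hc
      rw [Nat.not_odd_iff_even] at hc
      obtain ⟨d, rfl⟩ := hc
      exact h4 ⟨d, by ring⟩
    have h1 : c ∣ 2 * k := by
      have h' : 2 * c ∣ 2 * (2 * k) := by
        have e1 : 2 * c = c + c := by ring
        have e2 : 2 * (2 * k) = 4 * k := by ring
        rw [e1, e2]
        exact h
      exact (Nat.mul_dvd_mul_iff_left (by norm_num)).mp h'
    have h2 : c ∣ k := (Nat.Coprime.dvd_of_dvd_mul_left (Nat.coprime_two_right.mpr hc) h1)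
    have e1 : c + c = 2 * c := by ring
    rw [e1]
    exact Nat.mul_dvd_mul_left 2 h2
  · have hcop : Nat.Coprime o 4 := by
      have : Nat.Coprime o (2 ^ 2) := Nat.Coprime.pow_right 2 (Nat.coprime_two_right.mpr ho)
      simpa using this
    exact (hcop.dvd_of_dvd_mul_left h).mul_left 2

/-! ### Group theory -/

variable {K : Type u} [Field K] [Fintype K] [CharP K 3] {m : ℕ}

theorem pow_card_centralizer {G : Type*} [Group G] [Finite G] (w x : G) (hx : x * w = w * x) :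
    x ^ Nat.card ↥(Subgroup.centralizer {w}) = 1 := by
  have hmem : x ∈ Subgroup.centralizer {w} := Subgroup.mem_centralizer_singleton_iff.mpr hx
  have := pow_card_eq_one' (G := ↥(Subgroup.centralizer {w})) (x := ⟨x, hmem⟩)
  exact congrArg Subtype.val this

/-- (α) -/
theorem pow_sub_one_of_commute (hK : Fintype.card K = 3 ^ (2 * m + 1)) (w x : ↥(twistedG2 K (3 ^ m))) (s : ℕ)
    (hs : s.Prime) (hs2 : s ≠ 2) (hsq : s ∣ 3 ^ (2 * m + 1) - 1) (hw : orderOf w = s) (hx : x * w = w * x) :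
    x ^ (3 ^ (2 * m + 1) - 1) = 1 := by
  have := pow_card_centralizer w x hx
  rwa [(centralizer_sub_one hK w s hs hs2 hsq hw).2.1] at this

/-- (β) -/
theorem pow_add_one_of_commute (hm : 1 ≤ m) (hK : Fintype.card K = 3 ^ (2 * m + 1))
    (w x : ↥(twistedG2 K (3 ^ m))) (s : ℕ)
    (hs : s.Prime) (hs2 : s ≠ 2) (hsq : s ∣ 3 ^ (2 * m + 1) + 1) (hw : orderOf w = s) (hx : x * w = w * x) :
    x ^ ((3 ^ (2 * m + 1) + 1) / 2) = 1 := by
  obtain ⟨-, hcard, h4⟩ := centralizer_add_one hm hK w s hs hs2 hsq hw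
  have h1 := pow_card_centralizer w x hx
  rw [hcard] at h1
  have hmem : x ∈ Subgroup.centralizer {w} := Subgroup.mem_centralizer_singleton_iff.mpr hx
  have hd : orderOf x ∣ 3 ^ (2 * m + 1) + 1 := orderOf_dvd_of_pow_eq_one h1
  have h8 := q_mod_eight m
  -- `4 ∤ o(x)`
  have hn4 : ¬ 4 ∣ orderOf x := by
    intro h
    have h0 : orderOf x ≠ 0 := (orderOf_pos x).ne'
    have ho : orderOf (x ^ (orderOf x / 4)) = 4 := orderOf_pow_orderOf_div h0 h
    exact h4 _ (Subgroup.pow_mem _ hmem _) ho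
  apply orderOf_dvd_iff_pow_eq_one.mp
  -- `o ∣ 4 k₁`, `4 ∤ o`, so `o ∣ 2 k₁`
  obtain ⟨k₁, hk₁⟩ : ∃ k₁, 3 ^ (2 * m + 1) + 1 = 4 * k₁ := ⟨(3 ^ (2 * m + 1) + 1) / 4, by omega⟩
  have e2 : (3 ^ (2 * m + 1) + 1) / 2 = 2 * k₁ := by omega
  rw [e2]
  rw [hk₁] at hd
  exact dvd_two_mul_of_not_four_dvd _ _ hd hn4

/-- (γ): a prime-order element commuting with an element of prime order `p ∣ N` has order dividing `N`. -/
theorem prime_dvd_N_of_commute (hm : 1 ≤ m) (hK : Fintype.card K = 3 ^ (2 * m + 1))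
    (y w : ↥(twistedG2 K (3 ^ m))) (p s : ℕ) (hp : p.Prime) (hs : s.Prime)
    (hpN : p ∣ (3 ^ (2 * m + 1)) ^ 2 - 3 ^ (2 * m + 1) + 1) (hy : orderOf y = p) (hw : orderOf w = s)
    (hc : w * y = y * w) : s ∣ (3 ^ (2 * m + 1)) ^ 2 - 3 ^ (2 * m + 1) + 1 := by
  obtain ⟨hp2, hp3, -, -, h5, h6, h7⟩ := prime_N_facts' (2 * m + 1) (by omega) p hp hpN
  have hsG : s ∣ (3 ^ (2 * m + 1)) ^ 3 * (3 ^ (2 * m + 1) - 1) * ((3 ^ (2 * m + 1)) ^ 3 + 1) := by
    rw [← ree_card hK, ← hw]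
    exact orderOf_dvd_natCard w
  -- `p ∣ |C(w)|`
  have hpC : p ∣ Nat.card ↥(Subgroup.centralizer {w}) := by
    have hmem : y ∈ Subgroup.centralizer {w} := Subgroup.mem_centralizer_singleton_iff.mpr hc.symm
    have := orderOf_dvd_natCard (⟨y, hmem⟩ : ↥(Subgroup.centralizer {w}))
    rwa [← Subgroup.orderOf_coe, hy] at this
  rcases prime_cases (2 * m + 1) (by omega) s hs hsG with rfl | rfl | ⟨hs2, h⟩ | ⟨hs2, h⟩ | h
  · exact absurd hw (fun hw => no_three_commute hK p hp hp3 h6 y w hy hw hc.symm)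
  · exfalso
    rw [card_centralizer_invol hm hK w hw] at hpC
    rcases hp.dvd_mul.mp hpC with h | h
    · exact h7 h
    · have hq1 : 1 ≤ 3 ^ (2 * m + 1) := Nat.one_le_pow _ _ (by norm_num)
      have e : (3 ^ (2 * m + 1)) ^ 2 - 1 = (3 ^ (2 * m + 1) - 1) * (3 ^ (2 * m + 1) + 1) := by
        zify [hq1, show 1 ≤ (3 ^ (2 * m + 1)) ^ 2 from Nat.one_le_pow _ _ (by omega)]
        ring
      rw [e] at h
      rcases hp.dvd_mul.mp h with h | h
      · exact h6 h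
      · exact h5 h
  · exfalso
    rw [(centralizer_sub_one hK w s hs hs2 h hw).2.1] at hpC
    exact h6 hpC
  · exfalso
    rw [(centralizer_add_one hm hK w s hs hs2 h hw).2.1] at hpC
    exact h5 hpC
  · exact h

theorem exists_pow_orderOf_prime {G : Type*} [Group G] [Finite G] (x : G) (s : ℕ) (hs : s ∣ orderOf x) :
    orderOf (x ^ (orderOf x / s)) = s :=
  orderOf_pow_orderOf_div (orderOf_pos x).ne' hs

/-- (A): elements commuting with an element `≠ 1` of order dividing `N` have order dividing `N`. -/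
theorem pow_N_of_commute (hm : 1 ≤ m) (hK : Fintype.card K = 3 ^ (2 * m + 1))
    (x : ↥(twistedG2 K (3 ^ m))) (hx1 : x ≠ 1) (hxN : x ^ ((3 ^ (2 * m + 1)) ^ 2 - 3 ^ (2 * m + 1) + 1) = 1)
    (c : ↥(twistedG2 K (3 ^ m))) (hc : c * x = x * c) :
    c ^ ((3 ^ (2 * m + 1)) ^ 2 - 3 ^ (2 * m + 1) + 1) = 1 := by
  have hox : orderOf x ∣ (3 ^ (2 * m + 1)) ^ 2 - 3 ^ (2 * m + 1) + 1 := orderOf_dvd_of_pow_eq_one hxN
  have h1 : orderOf x ≠ 1 := fun h => hx1 (orderOf_eq_one_iff.mp h)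
  obtain ⟨p, hp, hpd⟩ := Nat.exists_prime_and_dvd h1
  set y := x ^ (orderOf x / p) with hy
  have hyo : orderOf y = p := exists_pow_orderOf_prime x p hpd
  apply orderOf_dvd_iff_pow_eq_one.mp
  apply dvd_N_of_primes (2 * m + 1) (by omega)
  · rw [← ree_card hK]
    exact orderOf_dvd_natCard c
  · intro s hs hsd
    set w := c ^ (orderOf c / s) with hw
    have hwo : orderOf w = s := exists_pow_orderOf_prime c s hsd
    have hcomm : w * y = y * w := by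
      rw [hw, hy]
      exact ((Commute.pow_pow (show Commute c x from hc) _ _)).eq
    exact prime_dvd_N_of_commute hm hK y w p s hp hs (hpd.trans hox) hyo hwo hcomm

/-! ### The `2`- and `3`-elements -/

/-- Elements of `2`-power order are involutions or trivial. -/
theorem sq_of_two_pow (hK : Fintype.card K = 3 ^ (2 * m + 1)) (x : ↥(twistedG2 K (3 ^ m))) (k : ℕ)
    (hk : x ^ 2 ^ k = 1) : x * x = 1 := by
  obtain ⟨j, -, hj⟩ := (Nat.dvd_prime_pow Nat.prime_two).mp (orderOf_dvd_of_pow_eq_one hk)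
  have hp : IsPGroup 2 ↥(Subgroup.zpowers x) := by
    apply IsPGroup.of_card (n := j)
    rw [Nat.card_zpowers, hj]
  obtain ⟨S, hS⟩ := hp.exists_le_sylow
  obtain ⟨-, hS2⟩ := Cfsg.Agent.S1152.result hK (h0T K m) h0T_mem_H h0T_ne_one h0T_sq
  exact (hS2 S).2 _ (hS (Subgroup.mem_zpowers _))

theorem not_four_dvd_orderOf (hK : Fintype.card K = 3 ^ (2 * m + 1)) (x : ↥(twistedG2 K (3 ^ m))) :
    ¬ 4 ∣ orderOf x := by
  intro h
  have h0 : orderOf x ≠ 0 := (orderOf_pos x).ne'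
  have ho : orderOf (x ^ (orderOf x / 4)) = 4 := orderOf_pow_orderOf_div h0 h
  have h1 : (x ^ (orderOf x / 4)) ^ 2 ^ 2 = 1 := by
    have := pow_orderOf_eq_one (x ^ (orderOf x / 4))
    rw [ho] at this
    exact this
  have h2 := sq_of_two_pow hK _ 2 h1
  have h3 : orderOf (x ^ (orderOf x / 4)) ∣ 2 := orderOf_dvd_of_pow_eq_one (by rw [pow_two]; exact h2)
  rw [ho] at h3
  norm_num at h3

/-- Elements of `3`-power order have `x⁹ = 1`. -/
theorem pow_nine_of_three_pow (hK : Fintype.card K = 3 ^ (2 * m + 1)) (x : ↥(twistedG2 K (3 ^ m))) (k : ℕ)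
    (hk : x ^ 3 ^ k = 1) : x ^ 9 = 1 := by
  obtain ⟨j, -, hj⟩ := (Nat.dvd_prime_pow Nat.prime_three).mp (orderOf_dvd_of_pow_eq_one hk)
  have hp : IsPGroup 3 ↥(Subgroup.zpowers x) := by
    apply IsPGroup.of_card (n := j)
    rw [Nat.card_zpowers, hj]
  obtain ⟨g, hg⟩ := exists_conj_mem_Us hK _ hp
  have h1 := Us_pow_nine hK _ (hg x (Subgroup.mem_zpowers _))
  rw [conj_pow] at h1
  have : x ^ 9 = g⁻¹ * (g * x ^ 9 * g⁻¹) * g := by group
  rw [this, h1]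
  group

theorem not_twenty_seven_dvd_orderOf (hK : Fintype.card K = 3 ^ (2 * m + 1)) (x : ↥(twistedG2 K (3 ^ m))) :
    ¬ 27 ∣ orderOf x := by
  intro h
  have h0 : orderOf x ≠ 0 := (orderOf_pos x).ne'
  have ho : orderOf (x ^ (orderOf x / 27)) = 27 := orderOf_pow_orderOf_div h0 h
  have h1 : (x ^ (orderOf x / 27)) ^ 3 ^ 3 = 1 := by
    have := pow_orderOf_eq_one (x ^ (orderOf x / 27))
    rw [ho] at this
    exact this
  have h2 := pow_nine_of_three_pow hK _ 3 h1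
  have h3 : orderOf (x ^ (orderOf x / 27)) ∣ 9 := orderOf_dvd_of_pow_eq_one h2
  rw [ho] at h3
  norm_num at h3

theorem mz2_pow_three_of_pow_nine : ∀ a : Multiplicative (ZMod 2), a ^ 9 = 1 → a ^ 3 = 1 := by decide

/-- No element of order `18`. -/
theorem orderOf_ne_eighteen (hm : 1 ≤ m) (hK : Fintype.card K = 3 ^ (2 * m + 1)) (x : ↥(twistedG2 K (3 ^ m))) :
    orderOf x ≠ 18 := by
  intro h18
  have h0 : orderOf x ≠ 0 := (orderOf_pos x).ne'
  have ht : orderOf (x ^ 9) = 2 := by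
    have := orderOf_pow_orderOf_div h0 (show 2 ∣ orderOf x by rw [h18]; norm_num)
    rwa [h18] at this
  have hu : orderOf (x ^ 2) = 9 := by
    have := orderOf_pow_orderOf_div h0 (show 9 ∣ orderOf x by rw [h18]; norm_num)
    rwa [h18] at this
  obtain ⟨e⟩ := invol_iso hm hK (x ^ 9) ht
  have humem : x ^ 2 ∈ Subgroup.centralizer {x ^ 9} := by
    rw [Subgroup.mem_centralizer_singleton_iff]
    rw [← pow_add, ← pow_add]
  set u : ↥(Subgroup.centralizer {x ^ 9}) := ⟨x ^ 2, humem⟩ with hudef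
  have hu9 : u ^ 9 = 1 := by
    apply Subtype.ext
    rw [Subgroup.coe_pow]
    show (x ^ 2) ^ 9 = 1
    rw [← hu]
    exact pow_orderOf_eq_one _
  have he9 : (e u) ^ 9 = 1 := by rw [← map_pow, hu9, map_one]
  have h1 : ((e u) ^ 9).1 = 1 := by rw [he9]; rfl
  have h2 : ((e u) ^ 9).2 = 1 := by rw [he9]; rfl
  rw [Prod.pow_fst] at h1
  rw [Prod.pow_snd] at h2
  have h1' := mz2_pow_three_of_pow_nine _ h1
  have h2' := psl2_pow_three_of_pow_nine _ h2
  have he3 : (e u) ^ 3 = 1 := by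
    apply Prod.ext
    · rw [Prod.pow_fst]; exact h1'
    · rw [Prod.pow_snd]; exact h2'
  have hu3 : u ^ 3 = 1 := by
    apply e.injective
    rw [map_pow, he3, map_one]
  have hx3 : (x ^ 2) ^ 3 = 1 := by
    have := congrArg Subtype.val hu3
    rwa [Subgroup.coe_pow] at this
  have := orderOf_dvd_of_pow_eq_one hx3
  rw [hu] at this
  norm_num at this

/-! ### The orders of the elements -/

/-- A number whose prime divisors are `2` and `3`, not divisible by `4` or `27`, divides `18`. -/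
theorem dvd_eighteen (o : ℕ) (h0 : o ≠ 0) (hp : ∀ p : ℕ, p.Prime → p ∣ o → p = 2 ∨ p = 3) (h4 : ¬ 4 ∣ o)
    (h27 : ¬ 27 ∣ o) : o ∣ 18 := by
  obtain ⟨a, o₁, ho₁, rfl⟩ := Nat.exists_eq_pow_mul_and_not_dvd h0 2 (by norm_num)
  have h0' : o₁ ≠ 0 := fun h => h0 (by rw [h, mul_zero])
  obtain ⟨b, o₂, ho₂, rfl⟩ := Nat.exists_eq_pow_mul_and_not_dvd h0' 3 (by norm_num)
  have ho₂1 : o₂ = 1 := by
    by_contra hne
    obtain ⟨p, hpp, hpd⟩ := Nat.exists_prime_and_dvd hne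
    rcases hp p hpp (Dvd.dvd.mul_left (Dvd.dvd.mul_left hpd _) _) with rfl | rfl
    · exact ho₁ (Dvd.dvd.mul_left hpd _)
    · exact ho₂ hpd
  subst ho₂1
  have ha : a ≤ 1 := by
    by_contra hcon
    apply h4
    have : (2 : ℕ) ^ 2 ∣ 2 ^ a := pow_dvd_pow 2 (by omega)
    exact Dvd.dvd.mul_right (by simpa using this) _
  have hb : b ≤ 2 := by
    by_contra hcon
    apply h27
    have : (3 : ℕ) ^ 3 ∣ 3 ^ b := pow_dvd_pow 3 (by omega)
    exact Dvd.dvd.mul_left (Dvd.dvd.mul_right (by simpa using this) _) _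
  have : (18 : ℕ) = 2 ^ 1 * (3 ^ 2 * 1) := by norm_num
  rw [this]
  exact Nat.mul_dvd_mul (pow_dvd_pow 2 ha) (Nat.mul_dvd_mul (pow_dvd_pow 3 hb) dvd_rfl)

/-- (B'): the orders of the elements of `²G₂(q)`. -/
theorem order_cases (hm : 1 ≤ m) (hK : Fintype.card K = 3 ^ (2 * m + 1)) (x : ↥(twistedG2 K (3 ^ m))) :
    x ^ 9 = 1 ∨ orderOf x = 6 ∨ orderOf x = 2 ∨
      (x * x ≠ 1 ∧ x ^ (3 ^ (2 * m + 1) - 1) = 1) ∨
      (x * x ≠ 1 ∧ x ^ ((3 ^ (2 * m + 1) + 1) / 2) = 1) ∨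
      (x ≠ 1 ∧ x ^ ((3 ^ (2 * m + 1)) ^ 2 - 3 ^ (2 * m + 1) + 1) = 1) := by
  have h0 : orderOf x ≠ 0 := (orderOf_pos x).ne'
  by_cases hex : ∃ p : ℕ, p.Prime ∧ p ∣ orderOf x ∧ p ≠ 2 ∧ p ≠ 3
  · obtain ⟨p, hp, hpd, hp2, hp3⟩ := hex
    set y := x ^ (orderOf x / p) with hy
    have hyo : orderOf y = p := exists_pow_orderOf_prime x p hpd
    have hxy : x * y = y * x := by
      rw [hy]
      exact ((Commute.refl x).pow_right _).eq
    have hpG : p ∣ (3 ^ (2 * m + 1)) ^ 3 * (3 ^ (2 * m + 1) - 1) * ((3 ^ (2 * m + 1)) ^ 3 + 1) := by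
      rw [← ree_card hK]
      exact hpd.trans (orderOf_dvd_natCard x)
    have hxx : x * x ≠ 1 := by
      intro h
      have h2 : orderOf x ∣ 2 := orderOf_dvd_of_pow_eq_one (by rw [pow_two]; exact h)
      have := (Nat.prime_dvd_prime_iff_eq hp Nat.prime_two).mp (hpd.trans h2)
      exact hp2 this
    have hx1 : x ≠ 1 := by
      rintro rfl
      exact hxx (one_mul 1)
    rcases prime_cases (2 * m + 1) (by omega) p hp hpG with h | h | ⟨-, h⟩ | ⟨-, h⟩ | h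
    · exact absurd h hp3
    · exact absurd h hp2
    · exact Or.inr (Or.inr (Or.inr (Or.inl ⟨hxx, pow_sub_one_of_commute hK y x p hp hp2 h hyo hxy⟩)))
    · exact Or.inr (Or.inr (Or.inr (Or.inr (Or.inl ⟨hxx, pow_add_one_of_commute hm hK y x p hp hp2 h hyo hxy⟩))))
    · refine Or.inr (Or.inr (Or.inr (Or.inr (Or.inr ⟨hx1, ?_⟩))))
      have hy1 : y ≠ 1 := by
        intro h1
        rw [h1, orderOf_one] at hyo
        exact hp.one_lt.ne hyo
      have hyN : y ^ ((3 ^ (2 * m + 1)) ^ 2 - 3 ^ (2 * m + 1) + 1) = 1 :=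
        orderOf_dvd_iff_pow_eq_one.mp (hyo ▸ h)
      exact pow_N_of_commute hm hK y hy1 hyN x hxy
  · have hp : ∀ p : ℕ, p.Prime → p ∣ orderOf x → p = 2 ∨ p = 3 := by
      intro p hp hpd
      by_contra hcon
      exact hex ⟨p, hp, hpd, fun h => hcon (Or.inl h), fun h => hcon (Or.inr h)⟩
    have h18 := dvd_eighteen (orderOf x) h0 hp (not_four_dvd_orderOf hK x) (not_twenty_seven_dvd_orderOf hK x)
    have hne := orderOf_ne_eighteen hm hK x
    obtain ⟨o, ho⟩ : ∃ o, orderOf x = o := ⟨_, rfl⟩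
    rw [ho] at h18 hne
    have hle := Nat.le_of_dvd (by norm_num) h18
    have h9 : ∀ j : ℕ, j ∣ 9 → orderOf x = j → x ^ 9 = 1 := fun j hj hoj =>
      orderOf_dvd_iff_pow_eq_one.mp (hoj ▸ hj)
    interval_cases o
    · exact absurd ho h0
    · exact Or.inl (h9 1 (by norm_num) ho)
    · exact Or.inr (Or.inr (Or.inl ho))
    · exact Or.inl (h9 3 (by norm_num) ho)
    · norm_num at h18
    · norm_num at h18
    · exact Or.inr (Or.inl ho)
    · norm_num at h18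
    · norm_num at h18
    · exact Or.inl (h9 9 (by norm_num) ho)
    · norm_num at h18
    · norm_num at h18
    · norm_num at h18
    · norm_num at h18
    · norm_num at h18
    · norm_num at h18
    · norm_num at h18
    · norm_num at h18
    · exact absurd rfl hne

end Cfsg.Agent.Lib.Helper61.ReeW2
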