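/-
helper61 (project REEW2): the abelian subgroup `D₁ = E₄ × Z_{(q+1)/4}` of `²G₂(q)`, its cyclic part `A₁` with
`|N(A₁)| = 6(q + 1)`, and the counts of the elements of order dividing `(q + 1)/2`.
-/
import Cfsg.Agent.Lib.Helper61.ReeW2.HOrd
import Cfsg.Agent.Lib.Helper61.Ree.SylTwo
import Cfsg.Agent.Lib.Helper51.ReeW2Ord3
import Cfsg.Agent.Lib.Helper11.ReeW2D1B
import Cfsg.Agent.Lib.Helper87.ReeW2D1A
import Cfsg.Agent.S1157

set_option autoImplicit false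
set_option linter.unusedSectionVars false

namespace Cfsg.Agent.Lib.Helper61.ReeW2

open Cfsg.Lie Cfsg.Agent.Lib.Helper61.ReeInv Cfsg.Agent.Lib.Helper61.ReeW

universe u

variable {K : Type u} [Field K] [Fintype K] [CharP K 3] {m : ℕ}

/-- Arithmetic of `k₁ = (q + 1)/4`. -/
theorem k_one_facts (m : ℕ) (hm : 1 ≤ m) :
    ∃ k : ℕ, Odd k ∧ 1 < k ∧ 3 ^ (2 * m + 1) + 1 = 4 * k ∧ (3 ^ (2 * m + 1) + 1) / 4 = k ∧
      (3 ^ (2 * m + 1) + 1) / 2 = 2 * k := by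
  have h8 := q_mod_eight m
  have hq : 27 ≤ 3 ^ (2 * m + 1) := by
    calc 27 = 3 ^ 3 := by norm_num
      _ ≤ 3 ^ (2 * m + 1) := Nat.pow_le_pow_right (by norm_num) (by omega)
  refine ⟨(3 ^ (2 * m + 1) + 1) / 4, ?_, ?_, ?_, rfl, ?_⟩
  · rw [Nat.odd_iff]; omega
  · omega
  · omega
  · omega

/-- The structure and the counts attached to `D₁`. -/
theorem four_torus_ree (hm : 1 ≤ m) (hK : Fintype.card K = 3 ^ (2 * m + 1)) :
    (∃ A : Subgroup ↥(twistedG2 K (3 ^ m)), IsCyclic ↥A ∧ Nat.card ↥A = (3 ^ (2 * m + 1) + 1) / 4 ∧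
      Nat.card ↥(Subgroup.normalizer (A : Set ↥(twistedG2 K (3 ^ m)))) = 6 * (3 ^ (2 * m + 1) + 1) ∧
      ∀ A₀ : Subgroup ↥(twistedG2 K (3 ^ m)), A₀ ≤ A → A₀ ≠ ⊥ →
        Subgroup.normalizer (A₀ : Set ↥(twistedG2 K (3 ^ m)))
          = Subgroup.normalizer (A : Set ↥(twistedG2 K (3 ^ m)))) ∧
    (∀ i : ℕ, 1 < i → i ∣ (3 ^ (2 * m + 1) + 1) / 4 →
      Nat.card {x : ↥(twistedG2 K (3 ^ m)) // orderOf x = i} * (6 * (3 ^ (2 * m + 1) + 1))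
        = Nat.totient i * Nat.card ↥(twistedG2 K (3 ^ m)) ∧
      Nat.card {x : ↥(twistedG2 K (3 ^ m)) // orderOf x = 2 * i} * (6 * (3 ^ (2 * m + 1) + 1))
        = 3 * Nat.totient i * Nat.card ↥(twistedG2 K (3 ^ m))) ∧
    Nat.card {x : ↥(twistedG2 K (3 ^ m)) // x * x ≠ 1 ∧ x ^ ((3 ^ (2 * m + 1) + 1) / 2) = 1}
        * (6 * (3 ^ (2 * m + 1) + 1))
      = (3 ^ (2 * m + 1) - 3) * Nat.card ↥(twistedG2 K (3 ^ m)) := by
  obtain ⟨k, hkodd, hk1, hk4, hkdiv, hk2⟩ := k_one_facts m hm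
  have hkq : k ∣ 3 ^ (2 * m + 1) + 1 := ⟨4, by rw [hk4]; ring⟩
  -- primes dividing `k`
  have hprime : ∀ p : ℕ, p.Prime → p ∣ k → p ≠ 2 ∧ p ∣ 3 ^ (2 * m + 1) + 1 := by
    intro p hp hpk
    refine ⟨?_, hpk.trans hkq⟩
    rintro rfl
    exact (Nat.not_even_iff_odd.mpr hkodd) (even_iff_two_dvd.mpr hpk)
  have hcyc : ∀ p : ℕ, p.Prime → p ∣ k → ∀ R : Subgroup ↥(twistedG2 K (3 ^ m)), IsPGroup p ↥R → IsCyclic ↥R := by
    intro p hp hpk R hR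
    obtain ⟨hp2, hpq⟩ := hprime p hp hpk
    obtain ⟨-, h3, -, -⟩ := prime_add_one_facts (2 * m + 1) p hp hp2 hpq
    exact pgroup_cyclic_gt_three hm hK p hp h3 R hR
  have hcent : ∀ a : ↥(twistedG2 K (3 ^ m)), (orderOf a).Prime → orderOf a ∣ k →
      (∀ y z : ↥(twistedG2 K (3 ^ m)), y * a = a * y → z * a = a * z → y * z = z * y) ∧
      Nat.card ↥(Subgroup.centralizer ({a} : Set ↥(twistedG2 K (3 ^ m)))) = 4 * k ∧
      ∀ x ∈ Subgroup.centralizer ({a} : Set ↥(twistedG2 K (3 ^ m))), orderOf x ≠ 4 := by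
    intro a ha hak
    obtain ⟨hp2, hpq⟩ := hprime _ ha hak
    have := centralizer_add_one hm hK a (orderOf a) ha hp2 hpq rfl
    rw [hk4] at this
    exact this
  have h16 : ¬ 16 ∣ Nat.card ↥(twistedG2 K (3 ^ m)) := by
    rw [ree_card hK]
    exact (Cfsg.Agent.Lib.Helper61.ReeInv.ree_card_two_part m).2
  -- the four-group and the element of order `3`
  obtain ⟨S⟩ : Nonempty (Sylow 2 ↥(twistedG2 K (3 ^ m))) := inferInstance
  obtain ⟨-, hS2⟩ := Cfsg.Agent.S1152.result hK (h0T K m) h0T_mem_H h0T_ne_one h0T_sq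
  obtain ⟨hSC, hSN⟩ := Cfsg.Agent.S1157.result hm hK S
  obtain ⟨t₁, t₂, f, h1, h2, hne, hc, -, hf1, hf2⟩ :=
    Cfsg.Agent.Lib.Helper51.ReeW2.exists_four_group_three_cycle S (hS2 S).1 (hS2 S).2 hSC hSN
  have hC0 := card_centralizer_four hm hK t₁ t₂ h1 h2 hne hc
  have hC0' : Nat.card ↥(Subgroup.centralizer ({t₁} : Set ↥(twistedG2 K (3 ^ m))) ⊓
      Subgroup.centralizer ({t₂} : Set ↥(twistedG2 K (3 ^ m))) : Subgroup ↥(twistedG2 K (3 ^ m))) = 8 * k := by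
    rw [hC0, hk4]; ring
  obtain ⟨D, hD, hDcard, hD4, hDN, hDcent, hDconj⟩ :=
    Cfsg.Agent.Lib.Helper87.ReeW2.exists_four_torus k hkodd hk1 h16 hcent hcyc t₁ t₂ f h1 h2 hne hc hf1 hf2 hC0'
  have key := Cfsg.Agent.Lib.Helper11.ReeW2.four_torus_counts k hkodd hk1 hcyc D hD hDcard hD4 hDN hDcent hDconj
  have e24 : 24 * k = 6 * (3 ^ (2 * m + 1) + 1) := by rw [hk4]; ring
  have e4 : 4 * k - 4 = 3 ^ (2 * m + 1) - 3 := by omega
  rw [e24, e4, ← hk2, ← hkdiv] at key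
  exact key
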