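/-
helper61 (project REEW2): Ward's count. The elements of `²G₂(q)` are partitioned by their orders, which gives the
number of elements `≠ 1` of order dividing `N = q² - q + 1`.
-/
import Cfsg.Agent.Lib.Helper61.ReeW2.DOne

set_option autoImplicit false
set_option linter.unusedSectionVars false

namespace Cfsg.Agent.Lib.Helper61.ReeW2

open Cfsg.Lie Cfsg.Agent.Lib.Helper61.ReeInv Cfsg.Agent.Lib.Helper61.ReeW

universe u

/-! ### Counting lemmas -/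

theorem card_or_disjoint {α : Type*} [Finite α] (P Q : α → Prop) (h : ∀ x, P x → ¬ Q x) :
    Nat.card {x // P x ∨ Q x} = Nat.card {x // P x} + Nat.card {x // Q x} := by
  classical
  have hd : Disjoint P Q := by
    rw [disjoint_iff_inf_le]
    intro x hx
    exact h x hx.1 hx.2
  rw [Nat.card_congr (subtypeOrEquiv P Q hd), Nat.card_sum]

theorem card_of_forall {α : Type*} (P : α → Prop) (h : ∀ x, P x) : Nat.card {x // P x} = Nat.card α :=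
  Nat.card_congr (Equiv.subtypeUnivEquiv h)

/-! ### Arithmetic -/

theorem q_ge (m : ℕ) (hm : 1 ≤ m) : 27 ≤ 3 ^ (2 * m + 1) := by
  calc 27 = 3 ^ 3 := by norm_num
    _ ≤ 3 ^ (2 * m + 1) := Nat.pow_le_pow_right (by norm_num) (by omega)

theorem three_dvd_q (m : ℕ) : 3 ∣ 3 ^ (2 * m + 1) := dvd_pow_self 3 (by omega)

/-- `o ∣ 9` and `3 ∤ M`, `o ∣ M` give `o = 1`. -/
theorem eq_one_of_dvd_nine (o M : ℕ) (h9 : o ∣ 9) (hM : o ∣ M) (h3 : ¬ 3 ∣ M) : o = 1 := by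
  have : (9 : ℕ) = 3 ^ 2 := by norm_num
  rw [this] at h9
  obtain ⟨j, -, rfl⟩ := (Nat.dvd_prime_pow Nat.prime_three).mp h9
  rcases j with _ | j
  · rfl
  · exfalso
    apply h3
    exact (Dvd.intro _ (pow_succ' 3 j).symm).trans hM

theorem not_three_dvd_sub_one (m : ℕ) : ¬ 3 ∣ 3 ^ (2 * m + 1) - 1 := by
  have := three_dvd_q m
  have h1 : 1 ≤ 3 ^ (2 * m + 1) := Nat.one_le_pow _ _ (by norm_num)
  omega

theorem not_three_dvd_add_one_half (m : ℕ) : ¬ 3 ∣ (3 ^ (2 * m + 1) + 1) / 2 := by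
  have := three_dvd_q m
  have h8 := q_mod_eight m
  omega

theorem not_three_dvd_N (m : ℕ) : ¬ 3 ∣ (3 ^ (2 * m + 1)) ^ 2 - 3 ^ (2 * m + 1) + 1 := by
  rw [N_eq]
  have := three_dvd_q m
  intro h
  have h2 : 3 ∣ 3 ^ (2 * m + 1) * (3 ^ (2 * m + 1) - 1) := Dvd.dvd.mul_right this _
  have := (Nat.dvd_add_right h2).mp h
  omega

theorem not_two_dvd_N (m : ℕ) : ¬ 2 ∣ (3 ^ (2 * m + 1)) ^ 2 - 3 ^ (2 * m + 1) + 1 := by
  rw [N_eq]
  have h8 := q_mod_eight m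
  intro h
  have h2 : 2 ∣ 3 ^ (2 * m + 1) * (3 ^ (2 * m + 1) - 1) := by
    apply Dvd.dvd.mul_left
    omega
  have := (Nat.dvd_add_right h2).mp h
  omega

theorem eq_one_of_dvd_sub_one_N (m : ℕ) (o : ℕ) (h1 : o ∣ 3 ^ (2 * m + 1) - 1)
    (h2 : o ∣ (3 ^ (2 * m + 1)) ^ 2 - 3 ^ (2 * m + 1) + 1) : o = 1 := by
  rw [N_eq] at h2
  have h3 : o ∣ 3 ^ (2 * m + 1) * (3 ^ (2 * m + 1) - 1) := Dvd.dvd.mul_left h1 _
  exact Nat.dvd_one.mp ((Nat.dvd_add_right h3).mp h2)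

theorem eq_one_of_dvd_add_one_N (m : ℕ) (o : ℕ) (h1 : o ∣ (3 ^ (2 * m + 1) + 1) / 2)
    (h2 : o ∣ (3 ^ (2 * m + 1)) ^ 2 - 3 ^ (2 * m + 1) + 1) : o = 1 := by
  have h8 := q_mod_eight m
  have h1' : o ∣ 3 ^ (2 * m + 1) + 1 := h1.trans ⟨2, by omega⟩
  have hc := coprime_N (2 * m + 1) (by omega)
  have h3 : o ∣ (3 ^ (2 * m + 1)) ^ 3 * (3 ^ (2 * m + 1) - 1) * (3 ^ (2 * m + 1) + 1) := Dvd.dvd.mul_left h1' _
  have := Nat.dvd_gcd h2 h3
  rw [hc] at this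
  exact Nat.dvd_one.mp this

theorem dvd_two_of_dvd_aux (q o : ℕ) (h8 : q % 8 = 3) (h1 : o ∣ q - 1) (h2 : o ∣ (q + 1) / 2) : o ∣ 2 := by
  have h2' : o ∣ q + 1 := h2.trans ⟨2, by omega⟩
  have := Nat.dvd_sub h2' h1
  have e : q + 1 - (q - 1) = 2 := by omega
  rwa [e] at this

theorem dvd_two_of_dvd_sub_one_add_one (m : ℕ) (o : ℕ) (h1 : o ∣ 3 ^ (2 * m + 1) - 1)
    (h2 : o ∣ (3 ^ (2 * m + 1) + 1) / 2) : o ∣ 2 :=
  dvd_two_of_dvd_aux _ o (q_mod_eight m) h1 h2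

/-! ### The count -/

variable {K : Type u} [Field K] [Fintype K] [CharP K 3] {m : ℕ}

theorem sq_eq_one_iff_orderOf_dvd {G : Type*} [Group G] (x : G) : x * x = 1 ↔ orderOf x ∣ 2 := by
  rw [orderOf_dvd_iff_pow_eq_one, pow_two]

/-- The elements with `x⁹ = 1`. -/
theorem card_pow_nine (hK : Fintype.card K = 3 ^ (2 * m + 1)) :
    Nat.card {x : ↥(twistedG2 K (3 ^ m)) // x ^ 9 = 1} = (3 ^ (2 * m + 1)) ^ 6 := by
  have h1 : Nat.card {x : ↥(twistedG2 K (3 ^ m)) // x = 1 ∨ (x ≠ 1 ∧ x ^ 9 = 1)}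
      = Nat.card {x : ↥(twistedG2 K (3 ^ m)) // x = 1} + Nat.card {x : ↥(twistedG2 K (3 ^ m)) // x ≠ 1 ∧ x ^ 9 = 1} :=
    card_or_disjoint _ _ (fun x hx h => h.1 hx)
  have h2 : Nat.card {x : ↥(twistedG2 K (3 ^ m)) // x ^ 9 = 1}
      = Nat.card {x : ↥(twistedG2 K (3 ^ m)) // x = 1 ∨ (x ≠ 1 ∧ x ^ 9 = 1)} := by
    apply Nat.card_congr
    apply Equiv.subtypeEquivRight
    intro x
    constructor
    · intro h
      by_cases hx : x = 1
      · exact Or.inl hx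
      · exact Or.inr ⟨hx, h⟩
    · rintro (rfl | ⟨-, h⟩)
      · exact one_pow 9
      · exact h
  rw [h2, h1, card_three_elements hK, Nat.card_unique]
  have hq : 1 ≤ (3 ^ (2 * m + 1)) ^ 3 := Nat.one_le_pow _ _ (by positivity)
  zify [hq]
  ring

/-- The elements of `H¹` which are not involutions. -/
theorem card_Hs_sq_ne_one (hK : Fintype.card K = 3 ^ (2 * m + 1)) :
    Nat.card {x : ↥(twistedG2 K (3 ^ m)) // (x * x ≠ 1 ∧ x ^ (3 ^ (2 * m + 1) - 1) = 1) ∧ x ∈ Hs K m} + 2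
      = 3 ^ (2 * m + 1) - 1 := by
  have h8 := q_mod_eight m
  have ha := card_Hs_orderOf (K := K) (m := m) hK 1 (one_dvd _)
  have hb := card_Hs_orderOf (K := K) (m := m) hK 2 (by omega)
  rw [Nat.totient_one] at ha
  rw [Nat.totient_two] at hb
  have hpow : ∀ x : ↥(twistedG2 K (3 ^ m)), x ∈ Hs K m → x ^ (3 ^ (2 * m + 1) - 1) = 1 := by
    intro x hx
    have := pow_card_eq_one' (G := ↥(Hs K m)) (x := ⟨x, hx⟩)
    rw [card_Hs hK] at this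
    exact congrArg Subtype.val this
  have h1 : Nat.card ↥(Hs K m)
      = Nat.card {x : ↥(twistedG2 K (3 ^ m)) // ((x * x ≠ 1 ∧ x ^ (3 ^ (2 * m + 1) - 1) = 1) ∧ x ∈ Hs K m) ∨
          ((orderOf x = 1 ∧ x ∈ Hs K m) ∨ (orderOf x = 2 ∧ x ∈ Hs K m))} := by
    apply Nat.card_congr
    apply Equiv.subtypeEquivRight
    intro x
    constructor
    · intro hx
      by_cases h : x * x = 1
      · right
        have hd := (sq_eq_one_iff_orderOf_dvd x).mp h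
        rcases (Nat.dvd_prime Nat.prime_two).mp hd with h' | h'
        · exact Or.inl ⟨h', hx⟩
        · exact Or.inr ⟨h', hx⟩
      · exact Or.inl ⟨⟨h, hpow x hx⟩, hx⟩
    · rintro (⟨-, h⟩ | ⟨-, h⟩ | ⟨-, h⟩) <;> exact h
  rw [card_or_disjoint, card_or_disjoint, ha, hb, card_Hs hK] at h1
  · omega
  · rintro x ⟨h, -⟩ ⟨h', -⟩
    omega
  · rintro x ⟨⟨h, -⟩, -⟩ (⟨h', -⟩ | ⟨h', -⟩)
    · exact h ((sq_eq_one_iff_orderOf_dvd x).mpr (h' ▸ one_dvd 2))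
    · exact h ((sq_eq_one_iff_orderOf_dvd x).mpr (h' ▸ dvd_rfl))

/-- The elements with `x^(q-1) = 1` which are not involutions. -/
theorem card_pow_sub_one (hm : 1 ≤ m) (hK : Fintype.card K = 3 ^ (2 * m + 1)) :
    Nat.card {x : ↥(twistedG2 K (3 ^ m)) // x * x ≠ 1 ∧ x ^ (3 ^ (2 * m + 1) - 1) = 1} * (2 * (3 ^ (2 * m + 1) - 1))
      = (3 ^ (2 * m + 1) - 3) * Nat.card ↥(twistedG2 K (3 ^ m)) := by
  have h := card_class_sub_one hm hK (fun x => x * x ≠ 1 ∧ x ^ (3 ^ (2 * m + 1) - 1) = 1)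
    (fun g x hx => by
      constructor
      · intro h1
        apply hx.1
        have e : g * x * g⁻¹ * (g * x * g⁻¹) = g * (x * x) * g⁻¹ := by group
        rw [e] at h1
        have : x * x = g⁻¹ * (g * (x * x) * g⁻¹) * g := by group
        rw [this, h1]
        group
      · rw [conj_pow, hx.2]
        group)
    (fun x hx => hx)
  rw [h]
  have := card_Hs_sq_ne_one (K := K) (m := m) hK
  congr 1
  omega

/-- The partition of `²G₂(q)`. -/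
theorem card_partition (hm : 1 ≤ m) (hK : Fintype.card K = 3 ^ (2 * m + 1)) :
    Nat.card ↥(twistedG2 K (3 ^ m))
      = Nat.card {x : ↥(twistedG2 K (3 ^ m)) // x ^ 9 = 1}
        + (Nat.card {x : ↥(twistedG2 K (3 ^ m)) // orderOf x = 6}
        + (Nat.card {x : ↥(twistedG2 K (3 ^ m)) // orderOf x = 2}
        + (Nat.card {x : ↥(twistedG2 K (3 ^ m)) // x * x ≠ 1 ∧ x ^ (3 ^ (2 * m + 1) - 1) = 1}
        + (Nat.card {x : ↥(twistedG2 K (3 ^ m)) // x * x ≠ 1 ∧ x ^ ((3 ^ (2 * m + 1) + 1) / 2) = 1}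
        + Nat.card {x : ↥(twistedG2 K (3 ^ m)) //
            x ≠ 1 ∧ x ^ ((3 ^ (2 * m + 1)) ^ 2 - 3 ^ (2 * m + 1) + 1) = 1})))) := by
  rw [← card_of_forall _ (order_cases hm hK)]
  -- facts on the classes
  have f1 : ∀ x : ↥(twistedG2 K (3 ^ m)), x ^ 9 = 1 → orderOf x ∣ 9 := fun x h => orderOf_dvd_of_pow_eq_one h
  have f3 : ∀ x : ↥(twistedG2 K (3 ^ m)), x * x ≠ 1 ∧ x ^ (3 ^ (2 * m + 1) - 1) = 1 →
      ¬ orderOf x ∣ 2 ∧ orderOf x ∣ 3 ^ (2 * m + 1) - 1 := fun x h =>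
    ⟨fun h' => h.1 ((sq_eq_one_iff_orderOf_dvd x).mpr h'), orderOf_dvd_of_pow_eq_one h.2⟩
  have f4 : ∀ x : ↥(twistedG2 K (3 ^ m)), x * x ≠ 1 ∧ x ^ ((3 ^ (2 * m + 1) + 1) / 2) = 1 →
      ¬ orderOf x ∣ 2 ∧ orderOf x ∣ (3 ^ (2 * m + 1) + 1) / 2 := fun x h =>
    ⟨fun h' => h.1 ((sq_eq_one_iff_orderOf_dvd x).mpr h'), orderOf_dvd_of_pow_eq_one h.2⟩
  have f5 : ∀ x : ↥(twistedG2 K (3 ^ m)), x ≠ 1 ∧ x ^ ((3 ^ (2 * m + 1)) ^ 2 - 3 ^ (2 * m + 1) + 1) = 1 →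
      orderOf x ≠ 1 ∧ orderOf x ∣ (3 ^ (2 * m + 1)) ^ 2 - 3 ^ (2 * m + 1) + 1 := fun x h =>
    ⟨fun h' => h.1 (orderOf_eq_one_iff.mp h'), orderOf_dvd_of_pow_eq_one h.2⟩
  have n1 := not_three_dvd_sub_one m
  have n2 := not_three_dvd_add_one_half m
  have n3 := not_three_dvd_N m
  have n4 := not_two_dvd_N m
  rw [card_or_disjoint, card_or_disjoint, card_or_disjoint, card_or_disjoint, card_or_disjoint]
  · -- 4 vs 5
    intro x h4 h5
    obtain ⟨a, b⟩ := f4 x h4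
    obtain ⟨c, d⟩ := f5 x h5
    exact c (eq_one_of_dvd_add_one_N m _ b d)
  · -- 3 vs 4, 5
    rintro x h3 (h4 | h5)
    · obtain ⟨a, b⟩ := f3 x h3
      obtain ⟨c, d⟩ := f4 x h4
      exact a (dvd_two_of_dvd_sub_one_add_one m _ b d)
    · obtain ⟨a, b⟩ := f3 x h3
      obtain ⟨c, d⟩ := f5 x h5
      exact c (eq_one_of_dvd_sub_one_N m _ b d)
  · -- involutions vs 3, 4, 5
    rintro x hI (h3 | h4 | h5)
    · exact (f3 x h3).1 (hI ▸ dvd_rfl)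
    · exact (f4 x h4).1 (hI ▸ dvd_rfl)
    · exact n4 (hI ▸ (f5 x h5).2)
  · -- order 6 vs I, 3, 4, 5
    rintro x h6 (hI | h3 | h4 | h5)
    · rw [h6] at hI; omega
    · apply n1
      have := (f3 x h3).2
      rw [h6] at this
      exact (show 3 ∣ 6 by norm_num).trans this
    · apply n2
      have := (f4 x h4).2
      rw [h6] at this
      exact (show 3 ∣ 6 by norm_num).trans this
    · apply n4
      have := (f5 x h5).2
      rw [h6] at this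
      exact (show 2 ∣ 6 by norm_num).trans this
  · -- 3-elements vs the rest
    rintro x h9 (h6 | hI | h3 | h4 | h5)
    · have := f1 x h9
      rw [h6] at this
      norm_num at this
    · have := f1 x h9
      rw [hI] at this
      norm_num at this
    · obtain ⟨a, b⟩ := f3 x h3
      exact a (eq_one_of_dvd_nine _ _ (f1 x h9) b n1 ▸ one_dvd 2)
    · obtain ⟨a, b⟩ := f4 x h4
      exact a (eq_one_of_dvd_nine _ _ (f1 x h9) b n2 ▸ one_dvd 2)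
    · obtain ⟨a, b⟩ := f5 x h5
      exact a (eq_one_of_dvd_nine _ _ (f1 x h9) b n3)

/-- Ward's count of the elements of order dividing `N = q² - q + 1`. -/
theorem card_pow_N (hm : 1 ≤ m) (hK : Fintype.card K = 3 ^ (2 * m + 1)) :
    3 * Nat.card {x : ↥(twistedG2 K (3 ^ m)) // x ≠ 1 ∧ x ^ ((3 ^ (2 * m + 1)) ^ 2 - 3 ^ (2 * m + 1) + 1) = 1}
      = (3 ^ (2 * m + 1)) ^ 4 * ((3 ^ (2 * m + 1)) ^ 2 - 1) * (3 ^ (2 * m + 1) - 2) := by
  have hpart := card_partition hm hK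
  have h3 := card_pow_sub_one hm hK
  have h4 := (four_torus_ree hm hK).2.2
  rw [card_pow_nine hK, card_order_six hm hK, card_invol hm hK] at hpart
  rw [ree_card hK] at hpart h3 h4
  have hq := q_ge m hm
  generalize Nat.card {x : ↥(twistedG2 K (3 ^ m)) // x * x ≠ 1 ∧ x ^ (3 ^ (2 * m + 1) - 1) = 1} = c₃ at *
  generalize Nat.card {x : ↥(twistedG2 K (3 ^ m)) // x * x ≠ 1 ∧ x ^ ((3 ^ (2 * m + 1) + 1) / 2) = 1} = c₄ at *
  generalize Nat.card {x : ↥(twistedG2 K (3 ^ m)) //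
    x ≠ 1 ∧ x ^ ((3 ^ (2 * m + 1)) ^ 2 - 3 ^ (2 * m + 1) + 1) = 1} = c₅ at *
  generalize 3 ^ (2 * m + 1) = q at *
  have hq2 : q ≤ q ^ 2 := by nlinarith
  have hq1 : 1 ≤ q ^ 2 := by nlinarith
  zify [show 1 ≤ q by omega, show 3 ≤ q by omega, show 2 ≤ q by omega, hq2, hq1] at hpart h3 h4 ⊢
  have hne : ((q : ℤ) - 1) * ((q : ℤ) + 1) ≠ 0 := by
    have : (27 : ℤ) ≤ q := by exact_mod_cast hq
    apply mul_ne_zero <;> omega
  have key : (((q : ℤ) - 1) * ((q : ℤ) + 1)) * (2 * (3 * (c₅ : ℤ)))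
      = (((q : ℤ) - 1) * ((q : ℤ) + 1)) * (2 * ((q : ℤ) ^ 4 * ((q : ℤ) ^ 2 - 1) * ((q : ℤ) - 2))) := by
    linear_combination (-6 * ((q : ℤ) - 1) * ((q : ℤ) + 1)) * hpart - 3 * ((q : ℤ) + 1) * h3 - ((q : ℤ) - 1) * h4
  have := mul_left_cancel₀ hne key
  linarith
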