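/-
helper61 (project REEW2): the two cyclic tori of order `q ∓ r + 1` (`r = 3^(m+1)`) of `²G₂(q)`: the centralisers of the
elements `≠ 1` of order dividing `N = q² - q + 1` are cyclic Hall subgroups, TI, with normaliser of index `6`, of order
`q - r + 1` or `q + r + 1`, both occurring.
-/
import Cfsg.Agent.Lib.Helper61.ReeW2.PiCount
import Cfsg.Agent.Lib.Helper66.ReeW2ToriA
import Cfsg.Agent.Lib.Helper11.ReeW2ToriBMain
import Cfsg.Agent.Lib.Helper54.ReeW2Gal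
import Cfsg.Agent.Lib.Helper54.ReeW2E4
import Cfsg.Agent.Lib.Helper67.ReeW2NC
import Cfsg.Agent.Lib.Helper86.ReeWConj
import Cfsg.Agent.Lib.Helper76.ReeWCycSub

set_option autoImplicit false
set_option linter.unusedSectionVars false

namespace Cfsg.Agent.Lib.Helper61.ReeW2

open Cfsg.Lie Cfsg.Agent.Lib.Helper61.ReeInv Cfsg.Agent.Lib.Helper61.ReeW Cfsg.Agent.Lib.Helper61.G2Seven

universe u

/-! ### Generalities -/

theorem mem_normalizer_of_conj_mem_fin {G : Type*} [Group G] [Finite G] (H : Subgroup G) (g : G)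
    (h : ∀ x ∈ H, g * x * g⁻¹ ∈ H) : g ∈ Subgroup.normalizer (H : Set G) := by
  rw [Subgroup.mem_normalizer_iff]
  intro x
  refine ⟨h x, fun hx => ?_⟩
  have hinj : Function.Injective (fun y : ↥H => (⟨g * y * g⁻¹, h y y.2⟩ : ↥H)) := by
    intro a b hab
    have h1 : g * (a : G) * g⁻¹ = g * (b : G) * g⁻¹ := congrArg Subtype.val hab
    apply Subtype.ext
    have h2 : (a : G) = g⁻¹ * (g * (a : G) * g⁻¹) * g := by group
    rw [h2, h1]
    group
  obtain ⟨y, hy⟩ := (Finite.injective_iff_surjective.mp hinj) ⟨g * x * g⁻¹, hx⟩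
  have h1 : g * (y : G) * g⁻¹ = g * x * g⁻¹ := congrArg Subtype.val hy
  have h2 : (y : G) = x := by
    have h3 : (y : G) = g⁻¹ * (g * (y : G) * g⁻¹) * g := by group
    rw [h3, h1]
    group
  rw [← h2]
  exact y.2

/-! ### Arithmetic -/

theorem q_mod_five (m : ℕ) : 3 ^ (2 * m + 1) % 5 = 3 ∨ 3 ^ (2 * m + 1) % 5 = 2 := by
  induction m with
  | zero => left; norm_num
  | succ n ih =>
    have e : 3 ^ (2 * (n + 1) + 1) = 9 * 3 ^ (2 * n + 1) := by ring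
    rw [e]
    omega

theorem not_five_dvd_card (m : ℕ) :
    ¬ 5 ∣ (3 ^ (2 * m + 1)) ^ 3 * (3 ^ (2 * m + 1) - 1) * ((3 ^ (2 * m + 1)) ^ 3 + 1) := by
  have h5 := q_mod_five m
  have hq1 : 1 ≤ 3 ^ (2 * m + 1) := Nat.one_le_pow _ _ (by norm_num)
  generalize 3 ^ (2 * m + 1) = q at *
  have hp5 : Nat.Prime 5 := by norm_num
  intro h
  rcases hp5.dvd_mul.mp h with h | h
  · rcases hp5.dvd_mul.mp h with h | h
    · have := hp5.dvd_of_dvd_pow h
      omega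
    · omega
  · have h3 : (q ^ 3 + 1) % 5 = ((q % 5) ^ 3 % 5 + 1) % 5 := by
      rw [Nat.add_mod, Nat.pow_mod]
    have h0 : (q ^ 3 + 1) % 5 = 0 := Nat.mod_eq_zero_of_dvd h
    rcases h5 with h5 | h5
    · rw [h5] at h3; norm_num at h3; omega
    · rw [h5] at h3; norm_num at h3; omega

/-! ### The structure of the centralisers -/

variable {K : Type u} [Field K] [Fintype K] [CharP K 3] {m : ℕ}

theorem N_dvd_card (hK : Fintype.card K = 3 ^ (2 * m + 1)) :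
    (3 ^ (2 * m + 1)) ^ 2 - 3 ^ (2 * m + 1) + 1 ∣ Nat.card ↥(twistedG2 K (3 ^ m)) := by
  rw [ree_card hK, card_eq_N_mul]
  exact Dvd.intro _ rfl

theorem N_pos (m : ℕ) : 0 < (3 ^ (2 * m + 1)) ^ 2 - 3 ^ (2 * m + 1) + 1 := by omega

theorem N_cyc (hm : 1 ≤ m) (hK : Fintype.card K = 3 ^ (2 * m + 1)) (d : ℕ)
    (hd : d ∣ (3 ^ (2 * m + 1)) ^ 2 - 3 ^ (2 * m + 1) + 1) :
    ∀ p : ℕ, p.Prime → p ∣ d → ∀ R : Subgroup ↥(twistedG2 K (3 ^ m)), IsPGroup p ↥R → IsCyclic ↥R := by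
  intro p hp hpd R hR
  obtain ⟨-, -, h3, -⟩ := prime_N_facts' (2 * m + 1) (by omega) p hp (hpd.trans hd)
  exact pgroup_cyclic_gt_three hm hK p hp h3 R hR

theorem N_comm (hm : 1 ≤ m) (hK : Fintype.card K = 3 ^ (2 * m + 1)) (d : ℕ)
    (hd : d ∣ (3 ^ (2 * m + 1)) ^ 2 - 3 ^ (2 * m + 1) + 1) :
    ∀ x : ↥(twistedG2 K (3 ^ m)), (orderOf x).Prime → orderOf x ∣ d →
      ∀ y z : ↥(twistedG2 K (3 ^ m)), y * x = x * y → z * x = x * z → y * z = z * y := by
  intro x hp hpd y z hy hz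
  obtain ⟨h2, -, -, h4, h5, -, -⟩ := prime_N_facts' (2 * m + 1) (by omega) _ hp (hpd.trans hd)
  exact centralizer_seven hm hK x (orderOf x) hp h2 h4 h5 rfl y z hy hz

/-- The structure of `C(x)`, `x ≠ 1`, `x ^ N = 1`. -/
theorem N_struct (hm : 1 ≤ m) (hK : Fintype.card K = 3 ^ (2 * m + 1)) (x : ↥(twistedG2 K (3 ^ m)))
    (hx1 : x ≠ 1) (hxN : x ^ ((3 ^ (2 * m + 1)) ^ 2 - 3 ^ (2 * m + 1) + 1) = 1) :
    IsCyclic ↥(Subgroup.centralizer ({x} : Set ↥(twistedG2 K (3 ^ m)))) ∧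
    Nat.card ↥(Subgroup.centralizer ({x} : Set ↥(twistedG2 K (3 ^ m))))
      ∣ (3 ^ (2 * m + 1)) ^ 2 - 3 ^ (2 * m + 1) + 1 ∧
    (∀ z ∈ Subgroup.centralizer ({x} : Set ↥(twistedG2 K (3 ^ m))), z ≠ 1 →
      Subgroup.centralizer ({z} : Set ↥(twistedG2 K (3 ^ m)))
        = Subgroup.centralizer ({x} : Set ↥(twistedG2 K (3 ^ m)))) ∧
    (∀ p : ℕ, p.Prime → p ∣ Nat.card ↥(Subgroup.centralizer ({x} : Set ↥(twistedG2 K (3 ^ m)))) →
      (Nat.card ↥(Subgroup.centralizer ({x} : Set ↥(twistedG2 K (3 ^ m))))).factorization p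
        = ((3 ^ (2 * m + 1)) ^ 2 - 3 ^ (2 * m + 1) + 1).factorization p) := by
  apply Cfsg.Agent.Lib.Helper66.ReeW2.centralizer_structure _ (N_dvd_card hK) _
    (N_cyc hm hK _ dvd_rfl) (N_comm hm hK _ dvd_rfl) (fun x hx1 hxN c hc => pow_N_of_commute hm hK x hx1 hxN c hc)
    x hx1 hxN
  rw [ree_card hK, card_eq_N_mul, Nat.mul_div_cancel_left _ (N_pos m)]
  exact coprime_N (2 * m + 1) (by omega)

/-- Centralisers of the same order are conjugate. -/
theorem N_conj (hm : 1 ≤ m) (hK : Fintype.card K = 3 ^ (2 * m + 1)) (x y : ↥(twistedG2 K (3 ^ m)))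
    (hx1 : x ≠ 1) (hy1 : y ≠ 1) (hxN : x ^ ((3 ^ (2 * m + 1)) ^ 2 - 3 ^ (2 * m + 1) + 1) = 1)
    (hyN : y ^ ((3 ^ (2 * m + 1)) ^ 2 - 3 ^ (2 * m + 1) + 1) = 1)
    (hcard : Nat.card ↥(Subgroup.centralizer ({x} : Set ↥(twistedG2 K (3 ^ m))))
      = Nat.card ↥(Subgroup.centralizer ({y} : Set ↥(twistedG2 K (3 ^ m))))) :
    ∃ g : ↥(twistedG2 K (3 ^ m)), Subgroup.centralizer ({y} : Set ↥(twistedG2 K (3 ^ m)))
      = (Subgroup.centralizer ({x} : Set ↥(twistedG2 K (3 ^ m)))).map (MulAut.conj g).toMonoidHom := by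
  obtain ⟨hxc, hxd, -, -⟩ := N_struct hm hK x hx1 hxN
  obtain ⟨hyc, -, -, -⟩ := N_struct hm hK y hy1 hyN
  exact Cfsg.Agent.Lib.Helper86.ReeW.conj_of_cyclic_of_comm_centralizers _ (N_cyc hm hK _ hxd) (N_comm hm hK _ hxd)
    _ _ hxc hyc rfl hcard.symm

/-- The normaliser of `C(x)` has index `1`, `2`, `3` or `6`. -/
theorem N_norm (hm : 1 ≤ m) (hK : Fintype.card K = 3 ^ (2 * m + 1)) (x : ↥(twistedG2 K (3 ^ m)))
    (hx1 : x ≠ 1) (hxN : x ^ ((3 ^ (2 * m + 1)) ^ 2 - 3 ^ (2 * m + 1) + 1) = 1) :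
    ∃ e : ℕ, (e = 1 ∨ e = 2 ∨ e = 3 ∨ e = 6) ∧
      Nat.card ↥(Subgroup.normalizer ((Subgroup.centralizer ({x} : Set ↥(twistedG2 K (3 ^ m)))
          : Subgroup ↥(twistedG2 K (3 ^ m))) : Set ↥(twistedG2 K (3 ^ m))))
        = e * Nat.card ↥(Subgroup.centralizer ({x} : Set ↥(twistedG2 K (3 ^ m)))) := by
  classical
  obtain ⟨hcyc, hdvd, hcent, -⟩ := N_struct hm hK x hx1 hxN
  set C := Subgroup.centralizer ({x} : Set ↥(twistedG2 K (3 ^ m))) with hC
  have hxC : x ∈ C := Subgroup.mem_centralizer_singleton_iff.mpr rfl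
  have hC1 : Nat.card ↥C ≠ 1 := by
    intro h
    have hbot := (Subgroup.card_eq_one).mp h
    rw [hbot, Subgroup.mem_bot] at hxC
    exact hx1 hxC
  have hCcomm : ∀ a ∈ C, ∀ b ∈ C, a * b = b * a :=
    Cfsg.Agent.Lib.Helper86.ReeW.comm_of_isCyclic C hcyc
  obtain ⟨p, hp, hpd⟩ := Nat.exists_prime_and_dvd hC1
  haveI : Fact p.Prime := ⟨hp⟩
  obtain ⟨hp2, -, hp3, hp4, hp5, -, -⟩ := prime_N_facts' (2 * m + 1) (by omega) p hp (hpd.trans hdvd)
  obtain ⟨y', hy'⟩ := exists_prime_orderOf_dvd_card' (G := ↥C) p hpd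
  set y : ↥(twistedG2 K (3 ^ m)) := (y' : ↥(twistedG2 K (3 ^ m))) with hy
  have hyC : y ∈ C := y'.2
  have hyo : orderOf y = p := by rw [hy, Subgroup.orderOf_coe]; exact hy'
  have hy1 : y ≠ 1 := by
    intro h
    rw [h, orderOf_one] at hyo
    exact hp.one_lt.ne hyo
  have hCy : Subgroup.centralizer ({y} : Set ↥(twistedG2 K (3 ^ m))) = C := hcent y hyC hy1
  -- `N(C) = N(⟨y⟩)`
  have hNN : Subgroup.normalizer ((C : Subgroup ↥(twistedG2 K (3 ^ m))) : Set ↥(twistedG2 K (3 ^ m)))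
      = Subgroup.normalizer ((Subgroup.zpowers y : Subgroup ↥(twistedG2 K (3 ^ m))) : Set ↥(twistedG2 K (3 ^ m))) := by
    apply le_antisymm
    · intro n hn
      have hnyC : n * y * n⁻¹ ∈ C := (Subgroup.mem_normalizer_iff.mp hn y).mp hyC
      have hcycp : ∀ p' : ℕ, p'.Prime → p' ∣ p →
          ∀ R : Subgroup ↥(twistedG2 K (3 ^ m)), IsPGroup p' ↥R → IsCyclic ↥R :=
        N_cyc hm hK p (hpd.trans hdvd)
      have heq : Subgroup.zpowers y = Subgroup.zpowers (n * y * n⁻¹) :=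
        Cfsg.Agent.Lib.Helper76.ReeW.eq_of_card_eq_of_comm C hCcomm p hcycp _ _
          (by rw [Subgroup.zpowers_le]; exact hyC) (by rw [Subgroup.zpowers_le]; exact hnyC)
          (Subgroup.isCyclic_zpowers y) (Subgroup.isCyclic_zpowers _)
          (by rw [Nat.card_zpowers, hyo]) (by rw [Nat.card_zpowers, orderOf_conj', hyo])
      apply mem_normalizer_of_conj_mem_fin
      intro z hz
      obtain ⟨k, rfl⟩ := Subgroup.mem_zpowers_iff.mp hz
      have e : n * y ^ k * n⁻¹ = (n * y * n⁻¹) ^ k := by rw [conj_zpow]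
      rw [e, heq]
      exact Subgroup.zpow_mem _ (Subgroup.mem_zpowers _) _
    · intro n hn
      have hnyZ : n * y * n⁻¹ ∈ Subgroup.zpowers y :=
        (Subgroup.mem_normalizer_iff.mp hn y).mp (Subgroup.mem_zpowers y)
      have hnyC : n * y * n⁻¹ ∈ C := by
        have hle : Subgroup.zpowers y ≤ C := by rw [Subgroup.zpowers_le]; exact hyC
        exact hle hnyZ
      have hny1 : n * y * n⁻¹ ≠ 1 := by
        intro h
        apply hy1
        have : y = n⁻¹ * (n * y * n⁻¹) * n := by group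
        rw [this, h]
        group
      have hCny := hcent _ hnyC hny1
      apply mem_normalizer_of_conj_mem_fin
      intro c hc
      rw [← hCny, Subgroup.mem_centralizer_singleton_iff]
      have hcy : c * y = y * c := by
        have : c ∈ Subgroup.centralizer ({y} : Set ↥(twistedG2 K (3 ^ m))) := by rw [hCy]; exact hc
        exact Subgroup.mem_centralizer_singleton_iff.mp this
      calc n * c * n⁻¹ * (n * y * n⁻¹) = n * (c * y) * n⁻¹ := by group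
        _ = n * (y * c) * n⁻¹ := by rw [hcy]
        _ = n * y * n⁻¹ * (n * c * n⁻¹) := by group
  -- the bound
  have hinj := rhoT_injective (K := K) hm hK
  have hX : orderOf (rhoT K m y) = p := by rw [orderOf_injective (rhoT K m) hinj y, hyo]
  have hgal := Cfsg.Agent.Lib.Helper54.ReeW2.card_conj_powers_le_six p hp2 (by rw [hK]; exact hp4)
    (by rw [hK]; exact hp5) (rhoT K m y) hX
  have hle6 : Nat.card {j : ZMod p // ∃ n : ↥(twistedG2 K (3 ^ m)), n * y * n⁻¹ = y ^ j.val} ≤ 6 := by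
    refine le_trans ?_ hgal
    apply Nat.card_le_card_of_injective
      (fun j => (⟨j.1, by
        obtain ⟨n, hn⟩ := j.2
        refine ⟨rhoT K m n, ?_⟩
        rw [← map_inv, ← map_mul, ← map_mul, hn, map_pow]⟩ :
        {j : ZMod p // ∃ P : GL (Fin 7) K, P * rhoT K m y * P⁻¹ = rhoT K m y ^ j.val}))
    intro a b hab
    apply Subtype.ext
    have h1 := Subtype.ext_iff.mp hab
    exact h1
  have hbound := Cfsg.Agent.Lib.Helper67.ReeW2.card_normalizer_zpowers_le p y hyo 6 hle6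
  rw [← hNN, hCy] at hbound
  -- divisibility
  have hdiv : Nat.card ↥C ∣ Nat.card ↥(Subgroup.normalizer ((C : Subgroup ↥(twistedG2 K (3 ^ m)))
      : Set ↥(twistedG2 K (3 ^ m)))) := Subgroup.card_dvd_of_le Subgroup.le_normalizer
  obtain ⟨e, he⟩ := hdiv
  have hCpos : 0 < Nat.card ↥C := Nat.card_pos
  have hNpos : 0 < Nat.card ↥(Subgroup.normalizer ((C : Subgroup ↥(twistedG2 K (3 ^ m)))
      : Set ↥(twistedG2 K (3 ^ m)))) := Nat.card_pos
  have he6 : e ≤ 6 := by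
    rw [he, mul_comm] at hbound
    exact Nat.le_of_mul_le_mul_right hbound hCpos
  have he0 : e ≠ 0 := by
    rintro rfl
    rw [mul_zero] at he
    omega
  -- `e ≠ 5`
  have he5 : e ≠ 5 := by
    rintro rfl
    have h5 : 5 ∣ Nat.card ↥(twistedG2 K (3 ^ m)) :=
      (Dvd.intro_left _ he.symm).trans (Subgroup.card_subgroup_dvd_card _)
    rw [ree_card hK] at h5
    exact not_five_dvd_card m h5
  -- `e ≠ 4`
  have hCodd : Odd (Nat.card ↥C) := by
    rw [← Nat.not_even_iff_odd, even_iff_two_dvd]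
    intro h
    exact not_two_dvd_N m (h.trans hdvd)
  have he4 : e ≠ 4 := by
    rintro rfl
    apply Cfsg.Agent.Lib.Helper54.ReeW2.card_normalizer_ne_four_mul C hcyc hCodd p y hyC hyo
    · intro z hz
      apply not_four_dvd_orderOf hK z
      rw [hz]
    · intro t ht htc
      have htC : t ∈ C := by
        rw [← hCy, Subgroup.mem_centralizer_singleton_iff]
        exact htc
      have := Subgroup.orderOf_dvd_natCard C htC
      rw [ht] at this
      exact not_two_dvd_N m (this.trans hdvd)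
    · rw [he, mul_comm]
  refine ⟨e, ?_, by rw [he, mul_comm]⟩
  interval_cases e
  · exact absurd rfl he0
  · exact Or.inl rfl
  · exact Or.inr (Or.inl rfl)
  · exact Or.inr (Or.inr (Or.inl rfl))
  · exact absurd rfl he4
  · exact absurd rfl he5
  · exact Or.inr (Or.inr (Or.inr rfl))

/-- The tori of order `q ∓ r + 1`. -/
theorem N_tori (hm : 1 ≤ m) (hK : Fintype.card K = 3 ^ (2 * m + 1)) :
    (∀ x : ↥(twistedG2 K (3 ^ m)), x ≠ 1 → x ^ ((3 ^ (2 * m + 1)) ^ 2 - 3 ^ (2 * m + 1) + 1) = 1 →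
      (Nat.card ↥(Subgroup.centralizer ({x} : Set ↥(twistedG2 K (3 ^ m)))) = 3 ^ (2 * m + 1) - 3 ^ (m + 1) + 1 ∨
        Nat.card ↥(Subgroup.centralizer ({x} : Set ↥(twistedG2 K (3 ^ m)))) = 3 ^ (2 * m + 1) + 3 ^ (m + 1) + 1) ∧
      Nat.card ↥(Subgroup.normalizer ((Subgroup.centralizer ({x} : Set ↥(twistedG2 K (3 ^ m)))
          : Subgroup ↥(twistedG2 K (3 ^ m))) : Set ↥(twistedG2 K (3 ^ m))))
        = 6 * Nat.card ↥(Subgroup.centralizer ({x} : Set ↥(twistedG2 K (3 ^ m))))) ∧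
    (∃ x : ↥(twistedG2 K (3 ^ m)), x ≠ 1 ∧ x ^ ((3 ^ (2 * m + 1)) ^ 2 - 3 ^ (2 * m + 1) + 1) = 1 ∧
      Nat.card ↥(Subgroup.centralizer ({x} : Set ↥(twistedG2 K (3 ^ m)))) = 3 ^ (2 * m + 1) - 3 ^ (m + 1) + 1) ∧
    (∃ x : ↥(twistedG2 K (3 ^ m)), x ≠ 1 ∧ x ^ ((3 ^ (2 * m + 1)) ^ 2 - 3 ^ (2 * m + 1) + 1) = 1 ∧
      Nat.card ↥(Subgroup.centralizer ({x} : Set ↥(twistedG2 K (3 ^ m)))) = 3 ^ (2 * m + 1) + 3 ^ (m + 1) + 1) :=
  Cfsg.Agent.Lib.Helper11.ReeW2.exists_tori m hm (ree_card hK)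
    (fun x hx1 hxN => (N_struct hm hK x hx1 hxN).2)
    (fun x y hx1 hy1 hxN hyN hc => N_conj hm hK x y hx1 hy1 hxN hyN hc)
    (fun x hx1 hxN => N_norm hm hK x hx1 hxN)
    (card_pow_N hm hK)

end Cfsg.Agent.Lib.Helper61.ReeW2
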