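/-
helper61 (project REEW2): the four cyclic tori of `²G₂(q)` with their normalisers, and the counts of the elements of
`²G₂(q)` by their orders (the glue for S1158, S1159, S2357).
-/
import Cfsg.Agent.Lib.Helper61.ReeW2.Tori

set_option autoImplicit false
set_option linter.unusedSectionVars false

namespace Cfsg.Agent.Lib.Helper61.ReeW2

open Cfsg.Lie Cfsg.Agent.Lib.Helper61.ReeInv Cfsg.Agent.Lib.Helper61.ReeW

universe u

/-! ### Generalities -/

/-- A TI-type criterion: `N(A₀) = N(D)` when the non-trivial elements of `A₀` have centraliser `D` and `A₀` is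
characteristic in `D`. -/
theorem normalizer_eq_of_TI {G : Type*} [Group G] [Finite G] (D A₀ : Subgroup G) (hA₀D : A₀ ≤ D) (hne : A₀ ≠ ⊥)
    (hcent : ∀ x ∈ A₀, x ≠ 1 → Subgroup.centralizer ({x} : Set G) = D)
    (hchar : ∀ y ∈ D, y ^ Nat.card ↥A₀ = 1 → y ∈ A₀) :
    Subgroup.normalizer (A₀ : Set G) = Subgroup.normalizer (D : Set G) := by
  apply le_antisymm
  · intro n hn
    obtain ⟨x, hx1⟩ := (Subgroup.ne_bot_iff_exists_ne_one.mp hne)
    have hx' : (x : G) ≠ 1 := fun h => hx1 (Subtype.ext h)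
    have hnx : n * (x : G) * n⁻¹ ∈ A₀ := (Subgroup.mem_normalizer_iff.mp hn x).mp x.2
    have hnx1 : n * (x : G) * n⁻¹ ≠ 1 := by
      intro h
      apply hx'
      have : (x : G) = n⁻¹ * (n * (x : G) * n⁻¹) * n := by group
      rw [this, h]
      group
    have h1 := hcent _ hnx hnx1
    rw [Cfsg.Agent.Lib.Helper11.ReeW2.centralizer_conj, hcent _ x.2 hx'] at h1
    exact Cfsg.Agent.Lib.Helper11.ReeW2.mem_normalizer_of_map_conj_eq n D h1
  · intro n hn
    apply mem_normalizer_of_conj_mem_fin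
    intro x hx
    apply hchar
    · exact (Subgroup.mem_normalizer_iff.mp hn x).mp (hA₀D hx)
    · rw [conj_pow]
      have : x ^ Nat.card ↥A₀ = 1 := by
        have := pow_card_eq_one' (G := ↥A₀) (x := ⟨x, hx⟩)
        exact congrArg Subtype.val this
      rw [this]
      group

theorem exists_orderOf_of_dvd {G : Type*} [Group G] [Finite G] (x : G) (d : ℕ) (hd : d ∣ orderOf x) :
    ∃ y : G, orderOf y = d :=
  ⟨x ^ (orderOf x / d), orderOf_pow_orderOf_div (orderOf_pos x).ne' hd⟩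

/-- A cyclic subgroup has an element of each order dividing its order. -/
theorem exists_orderOf_of_cyclic {G : Type*} [Group G] [Finite G] (A : Subgroup G) (hA : IsCyclic ↥A) (d : ℕ)
    (hd : d ∣ Nat.card ↥A) : ∃ y : G, orderOf y = d := by
  obtain ⟨g, hg⟩ := IsCyclic.exists_generator (α := ↥A)
  have ho : orderOf (g : G) = Nat.card ↥A := by
    rw [Subgroup.orderOf_coe]
    exact orderOf_eq_card_of_forall_mem_zpowers hg
  exact exists_orderOf_of_dvd (g : G) d (ho ▸ hd)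

/-- The elements of order `i` of a cyclic subgroup. -/
theorem card_orderOf_cyclic {G : Type*} [Group G] [Finite G] (A : Subgroup G) (hA : IsCyclic ↥A) (i : ℕ)
    (hi : i ∣ Nat.card ↥A) : Nat.card {x : G // orderOf x = i ∧ x ∈ A} = Nat.totient i := by
  classical
  haveI : Fintype ↥A := Fintype.ofFinite _
  have h1 := IsCyclic.card_orderOf_eq_totient (α := ↥A) (d := i) (by rw [← Nat.card_eq_fintype_card]; exact hi)
  rw [← h1, ← Fintype.card_subtype, ← Nat.card_eq_fintype_card]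
  apply Nat.card_congr
  exact {
    toFun := fun x => ⟨⟨x.1, x.2.2⟩, by rw [← Subgroup.orderOf_coe]; exact x.2.1⟩
    invFun := fun y => ⟨y.1.1, by rw [Subgroup.orderOf_coe]; exact y.2, y.1.2⟩
    left_inv := fun x => rfl
    right_inv := fun y => rfl }

/-- The count of the elements of order `i` through a cyclic TI subgroup. -/
theorem card_orderOf_of_TI {G : Type*} [Group G] [Finite G] (A : Subgroup G) (hA : IsCyclic ↥A) (i : ℕ)
    (hi1 : 1 < i) (hi : i ∣ Nat.card ↥A)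
    (hcent : ∀ x ∈ A, x ≠ 1 → Subgroup.centralizer ({x} : Set G) = A)
    (hcov : ∀ x : G, orderOf x = i → ∃ g : G, g * x * g⁻¹ ∈ A) :
    Nat.card {x : G // orderOf x = i} * Nat.card ↥(Subgroup.normalizer (A : Set G))
      = Nat.totient i * Nat.card G := by
  rw [← card_orderOf_cyclic A hA i hi]
  apply Cfsg.Agent.Lib.Helper37.ReeW2.card_mul_card_normalizer_eq A (fun x => orderOf x = i)
  · intro g x hx
    show orderOf (g * x * g⁻¹) = i
    rw [orderOf_conj']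
    exact hx
  · exact hcov
  · intro x hxA hx g hg
    have hx1 : x ≠ 1 := by
      rintro rfl
      rw [orderOf_one] at hx
      omega
    have hgx1 : g * x * g⁻¹ ≠ 1 := by
      intro h
      apply hx1
      have : x = g⁻¹ * (g * x * g⁻¹) * g := by group
      rw [this, h]
      group
    have h1 := hcent _ hg hgx1
    rw [Cfsg.Agent.Lib.Helper11.ReeW2.centralizer_conj, hcent x hxA hx1] at h1
    exact Cfsg.Agent.Lib.Helper11.ReeW2.mem_normalizer_of_map_conj_eq g A h1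

/-! ### The torus of order `(q - 1)/2` -/

variable {K : Type u} [Field K] [Fintype K] [CharP K 3] {m : ℕ}

theorem map_conj_one {G : Type*} [Group G] (H : Subgroup G) :
    H.map (MulAut.conj (1 : G)⁻¹).toMonoidHom = H := by
  ext y
  simp [Subgroup.mem_map, MulAut.conj_apply]

/-- The cyclic torus of order `(q - 1)/2` and its normaliser. -/
theorem torus_sub_one (hm : 1 ≤ m) (hK : Fintype.card K = 3 ^ (2 * m + 1)) :
    ∃ A : Subgroup ↥(twistedG2 K (3 ^ m)), IsCyclic ↥A ∧ Nat.card ↥A = (3 ^ (2 * m + 1) - 1) / 2 ∧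
      Nat.card ↥(Subgroup.normalizer (A : Set ↥(twistedG2 K (3 ^ m)))) = 2 * (3 ^ (2 * m + 1) - 1) ∧
      ∀ A₀ : Subgroup ↥(twistedG2 K (3 ^ m)), A₀ ≤ A → A₀ ≠ ⊥ →
        Subgroup.normalizer (A₀ : Set ↥(twistedG2 K (3 ^ m)))
          = Subgroup.normalizer (A : Set ↥(twistedG2 K (3 ^ m))) := by
  have h8 := q_mod_eight m
  have hq := q_ge m hm
  haveI := isCyclic_Hs (K := K) (m := m) hK
  obtain ⟨g, hg⟩ := IsCyclic.exists_generator (α := ↥(Hs K m))
  have ho : orderOf (g : ↥(twistedG2 K (3 ^ m))) = 3 ^ (2 * m + 1) - 1 := by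
    rw [Subgroup.orderOf_coe, orderOf_eq_card_of_forall_mem_zpowers hg, card_Hs hK]
  set a : ↥(twistedG2 K (3 ^ m)) := (g : ↥(twistedG2 K (3 ^ m))) ^ 2 with ha
  have hao : orderOf a = (3 ^ (2 * m + 1) - 1) / 2 := by
    rw [ha, orderOf_pow_of_dvd (by norm_num) (by rw [ho]; omega), ho]
  have haH : a ∈ Hs K m := Subgroup.pow_mem _ g.2 _
  set A : Subgroup ↥(twistedG2 K (3 ^ m)) := Subgroup.zpowers a with hA
  have hAH : A ≤ Hs K m := by rw [hA, Subgroup.zpowers_le]; exact haH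
  have hAcard : Nat.card ↥A = (3 ^ (2 * m + 1) - 1) / 2 := by rw [hA, Nat.card_zpowers, hao]
  have hAcyc : IsCyclic ↥A := Subgroup.isCyclic_zpowers a
  have hkodd : Odd ((3 ^ (2 * m + 1) - 1) / 2) := by rw [Nat.odd_iff]; omega
  have key : ∀ A₀ : Subgroup ↥(twistedG2 K (3 ^ m)), A₀ ≤ A → A₀ ≠ ⊥ →
      Subgroup.normalizer (A₀ : Set ↥(twistedG2 K (3 ^ m)))
        = Subgroup.normalizer ((Hs K m : Subgroup ↥(twistedG2 K (3 ^ m))) : Set ↥(twistedG2 K (3 ^ m))) := by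
    intro A₀ hA₀ hne
    have hd : Nat.card ↥A₀ ∣ (3 ^ (2 * m + 1) - 1) / 2 := hAcard ▸ Subgroup.card_dvd_of_le hA₀
    apply normalizer_eq_of_TI (Hs K m) A₀ (hA₀.trans hAH) hne
    · intro x hx hx1
      have hox : orderOf x ∣ (3 ^ (2 * m + 1) - 1) / 2 :=
        (Subgroup.orderOf_dvd_natCard A₀ hx).trans hd
      have hodd : Odd (orderOf x) := Odd.of_dvd_nat hkodd hox
      have hmem : 1 * x * (1 : ↥(twistedG2 K (3 ^ m)))⁻¹ ∈ Hs K m := by
        simpa using hAH (hA₀ hx)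
      rw [centralizer_eq_conj_Hs hK x 1 hx1 hodd hmem, map_conj_one]
    · intro y hy hpow
      have hcyc : ∀ p : ℕ, p.Prime → p ∣ Nat.card ↥A₀ →
          ∀ R : Subgroup ↥(twistedG2 K (3 ^ m)), IsPGroup p ↥R → IsCyclic ↥R := by
        intro p hp hpd R hR
        obtain ⟨-, h3, -⟩ := prime_half_facts m p hp (hpd.trans hd)
        exact pgroup_cyclic_gt_three hm hK p hp h3 R hR
      exact Cfsg.Agent.Lib.Helper76.ReeW.mem_of_pow_eq_one_of_comm (Hs K m)
        (fun a ha b hb => Hs_comm hK a b ha hb) _ hcyc A₀ (hA₀.trans hAH) (Subgroup.isCyclic_of_le hA₀) rfl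
        _ dvd_rfl y hy hpow
  have hAne : A ≠ ⊥ := by
    intro h
    have := Subgroup.card_eq_one.mpr h
    omega
  have hNA := key A le_rfl hAne
  refine ⟨A, hAcyc, hAcard, ?_, ?_⟩
  · rw [hNA, card_normalizer_Hs hm hK]
  · intro A₀ hA₀ hne
    rw [hNA]
    exact key A₀ hA₀ hne

/-! ### The tori of order `q ∓ r + 1` -/

/-- The centralisers `C(x)`, `x ≠ 1`, `x ^ N = 1`, and their subgroups. -/
theorem torus_of_centralizer (hm : 1 ≤ m) (hK : Fintype.card K = 3 ^ (2 * m + 1)) (x : ↥(twistedG2 K (3 ^ m)))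
    (hx1 : x ≠ 1) (hxN : x ^ ((3 ^ (2 * m + 1)) ^ 2 - 3 ^ (2 * m + 1) + 1) = 1) :
    ∀ A₀ : Subgroup ↥(twistedG2 K (3 ^ m)), A₀ ≤ Subgroup.centralizer ({x} : Set ↥(twistedG2 K (3 ^ m))) →
      A₀ ≠ ⊥ → Subgroup.normalizer (A₀ : Set ↥(twistedG2 K (3 ^ m)))
        = Subgroup.normalizer ((Subgroup.centralizer ({x} : Set ↥(twistedG2 K (3 ^ m)))
          : Subgroup ↥(twistedG2 K (3 ^ m))) : Set ↥(twistedG2 K (3 ^ m))) := by
  intro A₀ hA₀ hne
  obtain ⟨hcyc, hdvd, hcent, -⟩ := N_struct hm hK x hx1 hxN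
  apply normalizer_eq_of_TI _ A₀ hA₀ hne
  · intro z hz hz1
    exact hcent z (hA₀ hz) hz1
  · intro y hy hpow
    exact Cfsg.Agent.Lib.Helper76.ReeW.mem_of_pow_eq_one_of_comm _
      (Cfsg.Agent.Lib.Helper86.ReeW.comm_of_isCyclic _ hcyc) _
      (N_cyc hm hK _ ((Subgroup.card_dvd_of_le hA₀).trans hdvd)) A₀ hA₀ (Subgroup.isCyclic_of_le hA₀) rfl
      _ dvd_rfl y hy hpow

/-- helper11's abstract hypotheses hold for `²G₂(q)`. -/
theorem ree_hyp (hm : 1 ≤ m) (hK : Fintype.card K = 3 ^ (2 * m + 1)) :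
    Cfsg.Agent.Lib.Helper11.ReeW2.Hyp ↥(twistedG2 K (3 ^ m)) ((3 ^ (2 * m + 1)) ^ 2 - 3 ^ (2 * m + 1) + 1) :=
  ⟨N_pos m, Cfsg.Agent.Lib.Helper11.ReeW2.N_seven_le m, N_dvd_card hK,
    fun x hx1 hxN => (N_struct hm hK x hx1 hxN).2,
    fun x y hx1 hy1 hxN hyN hc => N_conj hm hK x y hx1 hy1 hxN hyN hc,
    fun x hx1 hxN => N_norm hm hK x hx1 hxN⟩

/-- The count of the elements of order `i ∣ |C(x₀)|`. -/
theorem card_orderOf_N_torus (hm : 1 ≤ m) (hK : Fintype.card K = 3 ^ (2 * m + 1)) (x₀ : ↥(twistedG2 K (3 ^ m)))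
    (hx₀1 : x₀ ≠ 1) (hx₀N : x₀ ^ ((3 ^ (2 * m + 1)) ^ 2 - 3 ^ (2 * m + 1) + 1) = 1) (i : ℕ) (hi1 : 1 < i)
    (hi : i ∣ Nat.card ↥(Subgroup.centralizer ({x₀} : Set ↥(twistedG2 K (3 ^ m))))) :
    Nat.card {x : ↥(twistedG2 K (3 ^ m)) // orderOf x = i}
        * (6 * Nat.card ↥(Subgroup.centralizer ({x₀} : Set ↥(twistedG2 K (3 ^ m)))))
      = Nat.totient i * Nat.card ↥(twistedG2 K (3 ^ m)) := by
  obtain ⟨hcyc, hdvd, hcent, -⟩ := N_struct hm hK x₀ hx₀1 hx₀N
  rw [← ((N_tori hm hK).1 x₀ hx₀1 hx₀N).2]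
  apply card_orderOf_of_TI _ hcyc i hi1 hi hcent
  intro y hy
  have hy1 : y ≠ 1 := by
    rintro rfl
    rw [orderOf_one] at hy
    omega
  have hyN : y ^ ((3 ^ (2 * m + 1)) ^ 2 - 3 ^ (2 * m + 1) + 1) = 1 :=
    orderOf_dvd_iff_pow_eq_one.mp (hy ▸ hi.trans hdvd)
  obtain ⟨p, hp, hpi⟩ := Nat.exists_prime_and_dvd (show i ≠ 1 by omega)
  have hyC : y ∈ Subgroup.centralizer ({y} : Set ↥(twistedG2 K (3 ^ m))) :=
    Subgroup.mem_centralizer_singleton_iff.mpr rfl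
  have h1 : p ∣ Nat.card ↥(Subgroup.centralizer ({y} : Set ↥(twistedG2 K (3 ^ m)))) := by
    have := Subgroup.orderOf_dvd_natCard _ hyC
    rw [hy] at this
    exact hpi.trans this
  have hcard := (ree_hyp hm hK).cd_eq_of_common_prime hx₀1 hx₀N hy1 hyN hp (hpi.trans hi) h1
  obtain ⟨g, hg⟩ := N_conj hm hK x₀ y hx₀1 hy1 hx₀N hyN hcard
  rw [hg, Subgroup.mem_map] at hyC
  obtain ⟨a, haA, hag⟩ := hyC
  refine ⟨g⁻¹, ?_⟩
  rw [← hag]
  simp only [MulEquiv.coe_toMonoidHom, MulAut.conj_apply]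
  have : g⁻¹ * (g * a * g⁻¹) * g⁻¹⁻¹ = a := by group
  rw [this]
  exact haA

/-- `(q - r + 1)(q + r + 1) = q² - q + 1`. -/
theorem k_mul_k (m : ℕ) :
    (3 ^ (2 * m + 1) - 3 ^ (m + 1) + 1) * (3 ^ (2 * m + 1) + 3 ^ (m + 1) + 1)
      = (3 ^ (2 * m + 1)) ^ 2 - 3 ^ (2 * m + 1) + 1 := by
  have hrq : 3 ^ (m + 1) ≤ 3 ^ (2 * m + 1) := Nat.pow_le_pow_right (by norm_num) (by omega)
  have hq1 : 1 ≤ 3 ^ (2 * m + 1) := Nat.one_le_pow _ _ (by norm_num)
  have hle : 3 ^ (2 * m + 1) ≤ (3 ^ (2 * m + 1)) ^ 2 := by nlinarith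
  have hr : (3 ^ (m + 1) : ℤ) * 3 ^ (m + 1) = 3 * 3 ^ (2 * m + 1) := by
    rw [← pow_add, ← pow_succ']
    congr 1
    omega
  zify [hrq, hq1, hle]
  linear_combination (-1 : ℤ) * hr

theorem sq_sub_one (q : ℕ) (hq : 1 ≤ q) : q ^ 2 - 1 = (q - 1) * (q + 1) := by
  obtain ⟨t, rfl⟩ : ∃ t, q = t + 1 := ⟨q - 1, by omega⟩
  rw [Nat.add_sub_cancel]
  have : (t + 1) ^ 2 = t * (t + 1 + 1) + 1 := by ring
  rw [this, Nat.add_sub_cancel]

/-! ### The elements of order `9` -/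

theorem card_order_nine (hm : 1 ≤ m) (hK : Fintype.card K = 3 ^ (2 * m + 1)) :
    Nat.card {x : ↥(twistedG2 K (3 ^ m)) // orderOf x = 9}
      = (3 ^ (2 * m + 1)) ^ 2 * (3 ^ (2 * m + 1) - 1) * ((3 ^ (2 * m + 1)) ^ 3 + 1) := by
  have h1 : Nat.card {x : ↥(twistedG2 K (3 ^ m)) // x ≠ 1 ∧ x ^ 9 = 1}
      = Nat.card {x : ↥(twistedG2 K (3 ^ m)) // orderOf x = 3 ∨ orderOf x = 9} := by
    apply Nat.card_congr
    apply Equiv.subtypeEquivRight
    intro x
    constructor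
    · rintro ⟨hx1, hx9⟩
      have hd : orderOf x ∣ 3 ^ 2 := by
        have := orderOf_dvd_of_pow_eq_one hx9
        norm_num
        exact this
      obtain ⟨j, hj, hjo⟩ := (Nat.dvd_prime_pow Nat.prime_three).mp hd
      interval_cases j
      · exfalso
        apply hx1
        rw [← orderOf_eq_one_iff, hjo]
        norm_num
      · left; rw [hjo]; norm_num
      · right; rw [hjo]; norm_num
    · rintro (h | h)
      · refine ⟨?_, ?_⟩
        · rintro rfl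
          rw [orderOf_one] at h
          omega
        · apply orderOf_dvd_iff_pow_eq_one.mp
          rw [h]
          norm_num
      · refine ⟨?_, ?_⟩
        · rintro rfl
          rw [orderOf_one] at h
          omega
        · apply orderOf_dvd_iff_pow_eq_one.mp
          rw [h]
  rw [card_or_disjoint _ _ (fun x h3 h9 => by rw [h3] at h9; omega), card_three_elements hK,
    card_order_three hm hK] at h1
  have hq := q_ge m hm
  generalize Nat.card {x : ↥(twistedG2 K (3 ^ m)) // orderOf x = 9} = c at *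
  generalize 3 ^ (2 * m + 1) = q at *
  have hq3 : 1 ≤ q ^ 3 := Nat.one_le_pow _ _ (by omega)
  have hq2 : 1 ≤ q ^ 2 := Nat.one_le_pow _ _ (by omega)
  zify [hq3, hq2, show 1 ≤ q by omega] at h1 ⊢
  linear_combination -h1

end Cfsg.Agent.Lib.Helper61.ReeW2
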